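import Mathlib

/-!
Dihedral Gorenstein–Walter, the counting step: the numerical contradictions.

`N` is the size of the class of `a`, `c` that of its orbit under `C(t)`, `e` that of its orbit under `W`, `M` the order of
the maximal cyclic subgroup of `C(t)` modulo the core in the top of the centraliser of `a`.
-/

set_option autoImplicit false

namespace Cfsg.Lib.GWD.Mixed

/-- The spread against the order formula. -/
theorem count_bound {N M Q n e c : ℕ} (hn : n * Q ≤ N) (hN : 64 * N * e ^ 2 * Q ≤ 45 * M ^ 2 * c ^ 3) :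
    64 * n * Q ^ 2 * e ^ 2 ≤ 45 * M ^ 2 * c ^ 3 := by
  refine le_trans (le_of_eq ?_) ((Nat.mul_le_mul_right (e ^ 2 * Q) (Nat.mul_le_mul_left 64 hn)).trans
    (le_of_eq_of_le ?_ hN))
  · ring
  · ring

theorem forty_Q {M Q : ℕ} (hM : 20 ≤ M) (hQ : (M - 1) * (M - 2) ≤ 2 * Q) : 17 * M ^ 2 ≤ 40 * Q := by
  obtain ⟨m, rfl⟩ : ∃ m, M = m + 20 := ⟨M - 20, by omega⟩
  rw [show m + 20 - 1 = m + 19 by omega, show m + 20 - 2 = m + 18 by omega] at hQ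
  nlinarith

theorem twentyfour_Q {M Q : ℕ} (hM : 36 ≤ M) (hQ : (M - 1) * (M - 2) ≤ 2 * Q) : 11 * M ^ 2 ≤ 24 * Q := by
  obtain ⟨m, rfl⟩ : ∃ m, M = m + 36 := ⟨M - 36, by omega⟩
  rw [show m + 36 - 1 = m + 35 by omega, show m + 36 - 2 = m + 34 by omega] at hQ
  nlinarith

/-- A plane `⟨a⟩ × ⟨z⟩`: at least three lines in the orbit with `f ≤ 2 e` elements on each, few against the torus. -/
theorem false_mixed {N M Q n e c L f : ℕ} (he : 0 < e) (hf : 0 < f) (hf2 : f ≤ 2 * e) (hL : 3 ≤ L)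
    (hM : 20 ≤ M) (hML : 4 * (L + 1) ≤ M) (hQ : (M - 1) * (M - 2) ≤ 2 * Q) (hn : (L - 1) * f ≤ n)
    (hc : c = L * f) (hsp : n * Q ≤ N) (hN : 64 * N * e ^ 2 * Q ≤ 45 * M ^ 2 * c ^ 3) : False := by
  have h := count_bound hsp hN
  have h40 := forty_Q hM hQ
  obtain ⟨l, rfl⟩ : ∃ l, L = l + 1 := ⟨L - 1, by omega⟩
  rw [show l + 1 - 1 = l by omega] at hn
  have h1 : 64 * (l * f) * (17 * M ^ 2) ^ 2 * e ^ 2 ≤ 1600 * (45 * M ^ 2 * ((l + 1) * f) ^ 3) := by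
    rw [← hc]
    refine le_trans ?_ (Nat.mul_le_mul_left 1600 h)
    calc 64 * (l * f) * (17 * M ^ 2) ^ 2 * e ^ 2 ≤ 64 * n * (40 * Q) ^ 2 * e ^ 2 := by gcongr
      _ = _ := by ring
  have h2 : (18496 * l * M ^ 2 * e ^ 2) * (f * M ^ 2) ≤ (72000 * (l + 1) ^ 3 * f ^ 2) * (f * M ^ 2) := by
    linarith [show 64 * (l * f) * (17 * M ^ 2) ^ 2 * e ^ 2 = (18496 * l * M ^ 2 * e ^ 2) * (f * M ^ 2) by ring,
      show 1600 * (45 * M ^ 2 * ((l + 1) * f) ^ 3) = (72000 * (l + 1) ^ 3 * f ^ 2) * (f * M ^ 2) by ring]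
  have hpos : 0 < f * M ^ 2 := by
    have : 0 < M := by omega
    positivity
  have h3 := Nat.le_of_mul_le_mul_right h2 hpos
  have h4 : 18496 * l * M ^ 2 * e ^ 2 ≤ 72000 * (l + 1) ^ 3 * (2 * e) ^ 2 := h3.trans (by gcongr)
  have h5 : 18496 * l * M ^ 2 ≤ 288000 * (l + 1) ^ 3 := by
    refine Nat.le_of_mul_le_mul_right (c := e ^ 2) ?_ (by positivity)
    linarith [show 72000 * (l + 1) ^ 3 * (2 * e) ^ 2 = 288000 * (l + 1) ^ 3 * e ^ 2 by ring]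
  have h6 : 18496 * l * (4 * (l + 1 + 1)) ^ 2 ≤ 288000 * (l + 1) ^ 3 := le_trans (by gcongr) h5
  nlinarith

/-- The abelian normal subgroup of kind (i): an element of the torus of order at least `p ^ 2`. -/
theorem false_kindI {N M Q n e c p k : ℕ} (he : Odd e) (hk : 0 < k) (hk2 : k ≤ 2) (hp : 3 ≤ p) (hpo : Odd p)
    (hke : k * e + 1 ≤ p ^ 2) (hM : 4 * p ^ 2 ≤ M) (hQ : (M - 1) * (M - 2) ≤ 2 * Q) (hn : p - 1 ≤ n)
    (hc : c ≤ p * (k * e)) (hsp : n * Q ≤ N) (hN : 64 * N * e ^ 2 * Q ≤ 45 * M ^ 2 * c ^ 3) : False := by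
  have he0 : 0 < e := he.pos
  have hkk : k ^ 2 * (k * e) + 12 ≤ 4 * p ^ 2 := by
    obtain ⟨i, rfl⟩ := he
    obtain ⟨j, rfl⟩ := hpo
    interval_cases k
    · nlinarith
    · have h8 : 2 ∣ j * (j + 1) := even_iff_two_dvd.1 (Nat.even_mul_succ_self j)
      obtain ⟨t, ht⟩ := h8
      have : (2 * j + 1) ^ 2 = 8 * t + 1 := by linarith [show (2 * j + 1) ^ 2 = 4 * (j * (j + 1)) + 1 by ring]
      omega
  have h := (count_bound hsp hN).trans (Nat.mul_le_mul_left _ (Nat.pow_le_pow_left hc 3))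
  have h24 := twentyfour_Q (by nlinarith) hQ
  obtain ⟨q, rfl⟩ : ∃ q, p = q + 1 := ⟨p - 1, by omega⟩
  rw [show q + 1 - 1 = q by omega] at hn
  have h1 : 64 * q * (11 * M ^ 2) ^ 2 * e ^ 2 ≤ 576 * (45 * M ^ 2 * ((q + 1) * (k * e)) ^ 3) := by
    refine le_trans ?_ (Nat.mul_le_mul_left 576 h)
    calc 64 * q * (11 * M ^ 2) ^ 2 * e ^ 2 ≤ 64 * n * (24 * Q) ^ 2 * e ^ 2 := by gcongr
      _ = _ := by ring
  have hpos : 0 < M ^ 2 * e ^ 2 := by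
    have : 0 < M := by nlinarith
    positivity
  have h2 : 7744 * q * M ^ 2 ≤ 25920 * (q + 1) ^ 3 * (k ^ 2 * (k * e)) := by
    refine Nat.le_of_mul_le_mul_right (c := M ^ 2 * e ^ 2) ?_ hpos
    linarith [show 64 * q * (11 * M ^ 2) ^ 2 * e ^ 2 = 7744 * q * M ^ 2 * (M ^ 2 * e ^ 2) by ring,
      show 576 * (45 * M ^ 2 * ((q + 1) * (k * e)) ^ 3) =
        25920 * (q + 1) ^ 3 * (k ^ 2 * (k * e)) * (M ^ 2 * e ^ 2) by ring]
  have h3 : 7744 * q * (4 * (q + 1) ^ 2) ^ 2 + 25920 * (q + 1) ^ 3 * 12 ≤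
      25920 * (q + 1) ^ 3 * (4 * (q + 1) ^ 2) := by
    refine le_trans ?_ (Nat.mul_le_mul_left _ hkk)
    rw [mul_add]
    exact Nat.add_le_add_right (le_trans (by gcongr) h2) _
  have h4 : 123904 * q * (q + 1) + 311040 ≤ 103680 * (q + 1) ^ 2 := by
    refine Nat.le_of_mul_le_mul_right (c := (q + 1) ^ 3) ?_ (by positivity)
    linarith [show 7744 * q * (4 * (q + 1) ^ 2) ^ 2 + 25920 * (q + 1) ^ 3 * 12 =
        (123904 * q * (q + 1) + 311040) * (q + 1) ^ 3 by ring,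
      show 25920 * (q + 1) ^ 3 * (4 * (q + 1) ^ 2) = 103680 * (q + 1) ^ 2 * (q + 1) ^ 3 by ring]
  nlinarith [sq_nonneg ((20224 : ℤ) * q - 41728)]

end Cfsg.Lib.GWD.Mixed
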