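import Cfsg.Agent.GWDihedral.Setting
import Cfsg.Agent.FourGroupGW.Mixed.Count
import Cfsg.Agent.FourGroupGW.Basic
import Cfsg.Agent.GWDihedral.Mixed.Arith

/-!
Dihedral Gorenstein–Walter, COUNT: the class of `a ∈ W₁` against its orbit under `C(t)`.
-/

set_option autoImplicit false
set_option linter.unusedSectionVars false
set_option linter.style.haveILetI false

namespace Cfsg.Lib.GWD.Mixed

open Subgroup
open Cfsg.Lib.GW (Core)
open Cfsg.Lib.GW.Mixed (orb card_orb)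

universe u

variable {G : Type u} [Group G] [Finite G]

/-- In a subgroup rotating the four-group some Sylow 2-subgroup centralises `t`, so `|H ∩ C(t)|₂ = |H|₂`. -/
theorem two_part_inf {V : Cfsg.Lib.GW.Frame G}
    (hno8 : ∀ E : Subgroup G, (∀ x ∈ E, x * x = 1) → Nat.card E ≤ 4) {H : Subgroup G} (h : Rot V H) :
    (Nat.card ↥(H ⊓ V.C)).factorization 2 = (Nat.card H).factorization 2 := by
  classical
  haveI : Fact (Nat.Prime 2) := ⟨Nat.prime_two⟩
  obtain ⟨hUH, g, hg, hgt, hgu⟩ := h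
  obtain ⟨P, hP⟩ := ((V.isPGroup_U.comap_subtype (K := H))).exists_le_sylow
  set Pg := (P : Subgroup H).map H.subtype
  have hPg : IsPGroup 2 Pg := P.2.map _
  have hUP : V.U ≤ Pg := fun x hx => ⟨⟨x, hUH hx⟩, hP (mem_subgroupOf.2 hx), rfl⟩
  haveI : Nontrivial Pg := ⟨⟨⟨V.t, hUP V.t_mem_U⟩, 1, fun e => V.t_ne_one (congrArg Subtype.val e)⟩⟩
  haveI : Nontrivial (center Pg) := hPg.center_nontrivial
  obtain ⟨z, hz⟩ := exists_prime_orderOf_dvd_card' (G := center Pg) 2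
    ((hPg.to_subgroup _).card_eq_or_dvd.resolve_left Finite.one_lt_card.ne')
  set w : G := ((z : Pg) : G)
  have hw2 : orderOf w = 2 := by rw [Subgroup.orderOf_coe, Subgroup.orderOf_coe, hz]
  have hwc : ∀ x ∈ Pg, x * w = w * x := fun x hx => congrArg Subtype.val (mem_center_iff.1 z.2 ⟨x, hx⟩)
  have hww : w * w = 1 := by rw [← pow_two, ← hw2, pow_orderOf_eq_one]
  -- the central involution is in the four-group
  have hwU : w ∈ V.U := by
    set E := V.U ⊔ zpowers w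
    have hzw : zpowers w ≤ normalizer (V.U : Set G) := zpowers_le.2 (centralizer_le_normalizer _
      (mem_centralizer_iff.2 fun x hx => hwc x (hUP hx)))
    have hE : ∀ x ∈ E, x * x = 1 := by
      intro x hx
      obtain ⟨a, ha, b, hb, rfl⟩ :=
        (Cfsg.Lib.Coprime.mem_sup_of_le_normalizer' hzw).1 (show x ∈ V.U ⊔ zpowers w from hx)
      obtain ⟨i, rfl⟩ := mem_zpowers_iff.1 ha
      have hbb : b * b = 1 := by
        rcases V.mem_U.1 hb with e | e | e | e <;> subst e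
        exacts [one_mul 1, V.t_sq, V.u_sq, V.v_sq]
      have hc : Commute (w ^ i) b := (show Commute b w from hwc b (hUP hb)).symm.zpow_left i
      rw [hc.symm.mul_mul_mul_comm, hbb, mul_one, ← (Commute.refl w).mul_zpow, hww, one_zpow]
    have hle : Nat.card E ≤ Nat.card V.U := by rw [V.card_U]; exact hno8 E hE
    exact eq_of_le_of_card_ge (le_sup_left : V.U ≤ E) hle ▸ mem_sup_right (mem_zpowers w)
  -- rotate it to `t`
  obtain ⟨k, hk, hkw⟩ : ∃ k ∈ H, k * w * k⁻¹ = V.t := by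
    rcases V.mem_U.1 hwU with e | e | e | e
    · rw [e, orderOf_one] at hw2; omega
    · exact ⟨1, one_mem _, by rw [e]; group⟩
    · exact ⟨g⁻¹, inv_mem hg, by rw [e, ← hgt]; group⟩
    · exact ⟨g⁻¹ * g⁻¹, mul_mem (inv_mem hg) (inv_mem hg), by rw [e, ← hgu, ← hgt]; group⟩
  have hle : Pg.map (MulAut.conj k).toMonoidHom ≤ H ⊓ V.C := by
    rintro _ ⟨x, hx, rfl⟩
    refine mem_inf.2 ⟨mul_mem (mul_mem hk (map_subtype_le _ hx)) (inv_mem hk), V.mem_C.2 ?_⟩
    simp only [MulEquiv.coe_toMonoidHom, MulAut.conj_apply]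
    rw [← hkw]
    calc k * x * k⁻¹ * (k * w * k⁻¹) = k * (x * w) * k⁻¹ := by group
      _ = k * (w * x) * k⁻¹ := by rw [hwc x hx]
      _ = k * w * k⁻¹ * (k * x * k⁻¹) := by group
  have h1 := card_dvd_of_le hle
  rw [card_map_of_injective (MulAut.conj k).injective, card_map_of_injective H.subtype_injective,
    P.card_eq_multiplicity] at h1
  refine le_antisymm ((Nat.factorization_le_iff_dvd Nat.card_pos.ne' Nat.card_pos.ne').2
    (card_dvd_of_le inf_le_left) 2) ((Nat.prime_two.pow_dvd_iff_le_factorization Nat.card_pos.ne').1 h1)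

/-- `|H ∩ C| = 2 ^ α |H ∩ O|` when `C = O ⋊ S`. -/
theorem card_inf_C {V : Cfsg.Lib.GW.Frame G} {n : ℕ} (hC : Nat.card V.C = 2 ^ n * Nat.card V.O) {H : Subgroup G}
    {α : ℕ} (hα : (Nat.card ↥(H ⊓ V.C)).factorization 2 = α) :
    Nat.card ↥(H ⊓ V.C) = 2 ^ α * Nat.card ↥(H ⊓ V.O) := by
  have hO : Odd (Nat.card ↥(H ⊓ V.O)) := V.odd_card_O.of_dvd_nat (card_dvd_of_le inf_le_right)
  have hle : H ⊓ V.O ≤ H ⊓ V.C := inf_le_inf_left _ V.O_le
  have h1 := relIndex_mul_relIndex ⊥ (H ⊓ V.O) (H ⊓ V.C) bot_le hle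
  simp only [relIndex_bot_left] at h1
  have hd : (H ⊓ V.O).relIndex (H ⊓ V.C) ∣ 2 ^ n := by
    have h2 := Cfsg.Lib.Coprime.card_sup_mul_card_inf
      (show H ⊓ V.C ≤ normalizer (V.O : Set G) from inf_le_right.trans V.C_le_normalizer_O)
    have he : V.O ⊓ (H ⊓ V.C) = H ⊓ V.O :=
      le_antisymm (le_inf (inf_le_right.trans inf_le_left) inf_le_left) (le_inf inf_le_right hle)
    have h5 := card_dvd_of_le (sup_le V.O_le (inf_le_right : H ⊓ V.C ≤ V.C))
    rw [hC] at h5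
    have h6 := Nat.mul_dvd_mul_right h5 (Nat.card ↥(H ⊓ V.O))
    rw [← he, h2, he, ← h1] at h6
    exact Nat.dvd_of_mul_dvd_mul_right (Nat.mul_pos (Nat.card_pos (α := ↥V.O)) (Nat.card_pos (α := ↥(H ⊓ V.O))))
      (by
        refine dvd_trans (dvd_of_eq ?_) (h6.trans (dvd_of_eq ?_))
        · ring
        · ring)
  obtain ⟨b, -, hb⟩ := (Nat.dvd_prime_pow Nat.prime_two).1 hd
  rw [hb] at h1
  have hodd : (Nat.card ↥(H ⊓ V.O)).factorization 2 = 0 :=
    Nat.factorization_eq_zero_of_not_dvd fun h => Nat.not_even_iff_odd.2 hO (even_iff_two_dvd.2 h)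
  have h4 := congrArg (fun k => k.factorization 2) h1
  simp only [Nat.factorization_mul Nat.card_pos.ne' (Nat.two_pow_pos b).ne', Finsupp.coe_add, Pi.add_apply,
    Nat.prime_two.factorization_pow, Finsupp.single_eq_same, hodd, zero_add, hα] at h4
  rw [← h1, h4, mul_comm]

/-- The order formulas of `G` and of `C(a)` bound the class of `a` by the cube of its orbit under `C`. -/
theorem order_bound (F : Frame G) (hB : F.Bounds) (hw : F.w₁ ≤ F.w₂) (hm : Nat.card F.C = 4 * F.m) {a : G}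
    {α T Q : ℕ} (hT : DTop F.four₁ (centralizer {a}) α T Q)
    (hCH : Nat.card ↥(centralizer {a} ⊓ F.four₁.C) = 2 ^ α * Nat.card ↥(centralizer {a} ⊓ F.four₁.O)) :
    64 * (orb (⊤ : Subgroup G) a).ncard * (orb F.four₁.W a).ncard ^ 2 * Q ≤
      45 * (2 ^ α * T) ^ 2 * (orb F.four₁.C a).ncard ^ 3 := by
  have h1 := card_orb (⊤ : Subgroup G) a
  rw [top_inf_eq, card_top] at h1
  have h2 := card_orb F.four₁.W a
  have h3 := card_orb F.four₁.C a
  rw [inf_comm, hCH] at h3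
  have hord := hT.order
  rw [inf_comm (centralizer {a}) F.four₁.W] at hord
  have hm' : Nat.card F.four₁.C = 4 * F.m := hm
  rw [hm'] at h3
  have h2' : (orb F.four₁.W a).ncard * Nat.card ↥(F.four₁.W ⊓ centralizer ({a} : Set G)) = F.w₁ := h2
  set N := (orb (⊤ : Subgroup G) a).ncard
  set e := (orb F.four₁.W a).ncard
  set c := (orb F.four₁.C a).ncard
  set H := Nat.card ↥(centralizer ({a} : Set G))
  set wH := Nat.card ↥(F.four₁.W ⊓ centralizer ({a} : Set G))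
  set oH := Nat.card ↥(centralizer ({a} : Set G) ⊓ F.four₁.O)
  have hH : 0 < H := Nat.card_pos
  have hwH : 0 < wH := Nat.card_pos
  have hoH : 0 < oH := Nat.card_pos
  have hw2 : 0 < F.w₂ := Nat.card_pos
  -- from the bound on `|G|`
  have hG : (Nat.card G : ℚ) * (F.w₁ : ℚ) ^ 2 ≤ 45 * (F.m : ℚ) ^ 3 := by
    have hu := hB.upper
    have hww : ((F.w₁ : ℚ) + F.w₂) ^ 2 ≤ 4 * (F.w₂ : ℚ) ^ 2 := by
      have h : (F.w₁ : ℚ) ≤ F.w₂ := by exact_mod_cast hw
      have h0 : (0 : ℚ) ≤ F.w₁ := Nat.cast_nonneg _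
      nlinarith
    have h5 : (4 * (Nat.card G : ℚ) * (F.w₁ : ℚ) ^ 2) * (F.w₂ : ℚ) ^ 2 ≤
        (4 * (45 * (F.m : ℚ) ^ 3)) * (F.w₂ : ℚ) ^ 2 := by
      have h6 := mul_le_mul_of_nonneg_left hww (show (0 : ℚ) ≤ 45 * (F.m : ℚ) ^ 3 by positivity)
      nlinarith
    have h7 := le_of_mul_le_mul_right h5 (by positivity)
    linarith
  rw [← h1, ← h2'] at hG
  have hm4 : (4 * F.m : ℚ) = c * (2 ^ α * oH) := by exact_mod_cast h3.symm
  have hord' : (H : ℚ) * (wH : ℚ) ^ 2 * (T : ℚ) ^ 2 = 2 ^ α * (oH : ℚ) ^ 3 * Q := by exact_mod_cast hord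
  push_cast at hG
  have key : (64 * (N : ℚ) * (e : ℚ) ^ 2 * Q) * ((2 : ℚ) ^ α * (oH : ℚ) ^ 3) ≤
      (45 * ((2 : ℚ) ^ α * T) ^ 2 * (c : ℚ) ^ 3) * ((2 : ℚ) ^ α * (oH : ℚ) ^ 3) := by
    have hl : (64 * (N : ℚ) * (e : ℚ) ^ 2 * Q) * ((2 : ℚ) ^ α * (oH : ℚ) ^ 3) =
        64 * (T : ℚ) ^ 2 * (N * H * ((e : ℚ) * wH) ^ 2) := by
      linear_combination (-64 * (N : ℚ) * (e : ℚ) ^ 2) * hord'
    have hr : (45 * ((2 : ℚ) ^ α * T) ^ 2 * (c : ℚ) ^ 3) * ((2 : ℚ) ^ α * (oH : ℚ) ^ 3) =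
        64 * (T : ℚ) ^ 2 * (45 * (F.m : ℚ) ^ 3) := by
      linear_combination (-45 * (T : ℚ) ^ 2 * ((4 * (F.m : ℚ)) ^ 2 + 4 * (F.m : ℚ) * (c * (2 ^ α * oH)) +
        ((c : ℚ) * (2 ^ α * oH)) ^ 2)) * hm4
    rw [hl, hr]
    exact mul_le_mul_of_nonneg_left hG (by positivity)
  have := le_of_mul_le_mul_right key (by positivity)
  exact_mod_cast this

end Cfsg.Lib.GWD.Mixed
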