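import Cfsg.Agent.GWDihedral.Setting

/-!
GW dihedral, the two facts the mixed half needs about every proper subgroup containing a four-group, rotated or
not (notes/gw_dihedral_c_h1.md).
-/

set_option autoImplicit false

namespace Cfsg.Lib.GWD

open Subgroup
open Cfsg.Lib.GW (Core)

universe u

variable {G : Type u} [Group G] (V : Cfsg.Lib.GW.Frame G)

/-- Modulo the odd core every involution of `C(t)` other than `t` inverts what `u` inverts in the odd part of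
`C(t)`; the only exception is the top `A₇`, where that part has order three and `16` does not divide the order. -/
def InvertsSpec : Prop :=
  ∀ H : Subgroup G, H ≠ ⊤ → V.U ≤ H → ∀ v ∈ H ⊓ V.C, orderOf v = 2 → v ≠ V.t →
    ∀ x ∈ H ⊓ V.O, V.u * x * V.u⁻¹ = x⁻¹ →
      v * x * v⁻¹ * x ∈ Core H ∨ (x ^ 3 ∈ Core H ∧ ¬ 16 ∣ Nat.card H)

/-- Modulo the odd core the part of the odd part of `C(t)` inverted by `u` is cyclic. -/
def TorusAll : Prop :=
  ∀ H : Subgroup G, H ≠ ⊤ → V.U ≤ H →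
    (∀ K : Subgroup G, K ≤ H ⊓ V.O → (∀ k ∈ K, V.u * k * V.u⁻¹ * k ∈ Core H) →
      ∃ g ∈ K, K ≤ zpowers g ⊔ Core H) ∧
    ∀ x ∈ H ⊓ V.O, ∀ y ∈ H ⊓ V.O, V.u * x * V.u⁻¹ = x⁻¹ → V.u * y * V.u⁻¹ = y⁻¹ →
      x * y * x⁻¹ * y⁻¹ ∈ Core H

end Cfsg.Lib.GWD
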