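import Cfsg.Agent.GWDihedral.Local.Full
import Cfsg.Agent.GWDihedral.Mixed.Spec
import Cfsg.Agent.GWDihedral.Mixed.Count

/-!
GW dihedral, mixed half: reflections of `C`, and no subgroup of index two in the centraliser of a fixed element.
-/

set_option autoImplicit false
set_option linter.unusedSectionVars false
set_option linter.style.haveILetI false

namespace Cfsg.Lib.GWD.Mixed

open Subgroup
open Cfsg.Lib.GW (Core)

universe u

variable {G : Type u} [Group G] [Finite G] (D : GWD.Frame G)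

theorem centralizer_ne_top (hm : Minimal G) {b : G} (hb : b ≠ 1) : centralizer ({b} : Set G) ≠ ⊤ := by
  intro h
  haveI := hm.simple
  have ha : b ∈ center G := mem_center_iff.2 fun g =>
    mem_centralizer_singleton_iff.1 (h ▸ mem_top g : g ∈ centralizer ({b} : Set G))
  rcases (inferInstance : (center G).Normal).eq_bot_or_eq_top with hb' | ht
  · exact hb (mem_bot.1 (hb' ▸ ha))
  · exact hm.nonab ⟨⟨fun x y => (mem_center_iff.1 (ht ▸ mem_top x : x ∈ center G) y).symm⟩⟩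

theorem no_eight (hm : Minimal G) (E : Subgroup G) (hE : ∀ x ∈ E, x * x = 1) : Nat.card E ≤ 4 := by
  classical
  have hc : ∀ a ∈ E, ∀ b ∈ E, Commute a b := fun a ha b hb => by
    have hi : ∀ x ∈ E, x⁻¹ = x := fun x hx => inv_eq_of_mul_eq_one_left (hE x hx)
    have h := hi _ (mul_mem ha hb)
    rw [mul_inv_rev, hi a ha, hi b hb] at h
    exact h.symm
  by_contra hlt
  obtain ⟨a, ha, ha1⟩ : ∃ a ∈ E, a ≠ 1 := by
    by_contra h
    push Not at h
    rw [(eq_bot_iff_forall E).2 h, Subgroup.card_bot] at hlt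
    omega
  obtain ⟨b, hb, hbz⟩ : ∃ b ∈ E, b ∉ ({1, a} : Finset G) := by
    by_contra h
    push Not at h
    have := Nat.card_le_card_of_injective (fun x : E => (⟨x.1, h x x.2⟩ : ({1, a} : Finset G)))
      fun x y e => Subtype.ext (congrArg (fun z => (z.1 : G)) e)
    rw [Nat.card_eq_finsetCard] at this
    have := Finset.card_insert_le (1 : G) {a}
    simp only [Finset.card_singleton] at this
    omega
  simp only [Finset.mem_insert, Finset.mem_singleton, not_or] at hbz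
  have hsub : ∀ x ∈ E, x ∈ ({1, a, b, a * b} : Finset G) := fun x hx => by
    rcases four_closed hm (hE a ha) (hE b hb) (hE x hx) ha1 hbz.1 (Ne.symm hbz.2) (hc a ha b hb) (hc x hx a ha)
      (hc x hx b hb) with e | e | e | e <;> subst e <;> simp
  have h1 := Nat.card_le_card_of_injective (fun x : E => (⟨x.1, hsub x x.2⟩ : ({1, a, b, a * b} : Finset G)))
    fun x y e => Subtype.ext (congrArg (fun z => (z.1 : G)) e)
  rw [Nat.card_eq_finsetCard] at h1
  exact hlt (h1.trans Finset.card_le_four)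

theorem sq_S (x : G) (hx : x ∈ D.S) : x ∈ zpowers D.s ∨ x * x = 1 := by
  by_cases h : x ∈ zpowers D.s
  · exact Or.inl h
  · exact Or.inr (D.data.reflection (by rwa [D.coe_sylow]) h).1

theorem rs_mem_S : D.r * D.s ∈ D.S := mul_mem D.r_mem_S D.s_mem_S

theorem s_eq : D.s = D.r * (D.r * D.s) := by
  rw [← mul_assoc, Cfsg.Lib.GenDihedral.mul_self_of_two D.r_order, one_mul]

/-- A 2-subgroup of `C` has a conjugate under `C` inside the Sylow subgroup. -/
theorem exists_conj_S {P : Subgroup G} (hP : IsPGroup 2 P) (hPC : P ≤ D.C) :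
    ∃ c ∈ D.C, ∀ x ∈ P, c * x * c⁻¹ ∈ D.S := by
  haveI : Fact (Nat.Prime 2) := ⟨Nat.prime_two⟩
  have hTC : (D.sylow : Subgroup G) ≤ D.C := D.coe_sylow.le.trans D.S_le_C
  obtain ⟨R, hR⟩ := (hP.comap_subtype (K := D.C)).exists_le_sylow
  obtain ⟨c, hc⟩ := MulAction.exists_smul_eq D.C R (D.sylow.subtype hTC)
  refine ⟨c, c.2, fun x hx => ?_⟩
  have h1 : c * ⟨x, hPC hx⟩ * c⁻¹ ∈ (D.sylow.subtype hTC : Subgroup D.C) := by
    rw [← hc]; exact ⟨_, hR (mem_subgroupOf.2 hx), rfl⟩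
  rw [Sylow.coe_subtype] at h1
  exact D.coe_sylow ▸ mem_subgroupOf.1 h1

/-- An involution of the Sylow subgroup other than `t` is conjugate in it to `r` or `r s`. -/
theorem reflection_cases {w : G} (hw : w ∈ D.S) (hw2 : orderOf w = 2) (hwt : w ≠ D.t) :
    ∃ τ ∈ D.S, τ * w * τ⁻¹ = D.r ∨ τ * w * τ⁻¹ = D.r * D.s := by
  have hws : w ∉ zpowers D.s := fun h => by
    have hww : w * w = 1 := by rw [← pow_two, ← hw2, pow_orderOf_eq_one]
    rcases D.data.sq_zpowers h hww with e | e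
    · rw [e, orderOf_one] at hw2; omega
    · exact hwt (e.trans D.t_eq)
  rcases D.S_cases hw with h | h
  · exact absurd h hws
  obtain ⟨i, hi⟩ := mem_zpowers_iff.1 h
  have hwi : w = D.s ^ i * D.r := by
    rw [hi, mul_assoc, Cfsg.Lib.GenDihedral.mul_self_of_two D.r_order, mul_one]
  have hrel : ∀ j : ℤ, D.r * D.s ^ j = D.s ^ (-j) * D.r := fun j => by
    rw [zpow_neg, ← inv_zpow, ← D.rel, conj_zpow]; group
  have hconj : ∀ j : ℤ, D.s ^ j * w * (D.s ^ j)⁻¹ = D.s ^ (i + 2 * j) * D.r := fun j => by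
    rw [hwi, ← zpow_neg, mul_assoc (D.s ^ j), mul_assoc (D.s ^ i), hrel, neg_neg, ← mul_assoc, ← mul_assoc,
      ← zpow_add, ← zpow_add, show j + i + j = i + 2 * j by ring]
  rcases Int.even_or_odd' i with ⟨k, rfl | rfl⟩
  · refine ⟨D.s ^ (-k), zpow_mem D.s_mem_S _, Or.inl ?_⟩
    rw [hconj, show 2 * k + 2 * -k = 0 by ring, zpow_zero, one_mul]
  · refine ⟨D.s ^ (-k - 1), zpow_mem D.s_mem_S _, Or.inr ?_⟩
    rw [hconj, show 2 * k + 1 + 2 * (-k - 1) = -(1 : ℤ) by ring, ← hrel, zpow_one]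

/-- An involution of `C` other than `t` is conjugate under `C` to `r` or `r s`. -/
theorem exists_conj_reflection {v : G} (hv : v ∈ D.C) (hv2 : orderOf v = 2) (hvt : v ≠ D.t) :
    ∃ c ∈ D.C, c * D.r * c⁻¹ = v ∨ c * (D.r * D.s) * c⁻¹ = v := by
  obtain ⟨c, hc, hcS⟩ := exists_conj_S D (P := zpowers v)
    (IsPGroup.of_card (n := 1) (by rw [Nat.card_zpowers, hv2, pow_one])) (zpowers_le.2 hv)
  obtain ⟨τ, hτ, h⟩ := reflection_cases D (hcS v (mem_zpowers v))
    ((MulEquiv.orderOf_eq (MulAut.conj c) v).trans hv2) fun e => hvt ((MulAut.conj c).injective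
      (show c * v * c⁻¹ = c * D.t * c⁻¹ by rw [e, mul_inv_eq_iff_eq_mul.2 (D.mem_C.1 hc)]))
  refine ⟨(τ * c)⁻¹, inv_mem (mul_mem (D.S_le_C hτ) hc), h.imp (fun e => ?_) fun e => ?_⟩ <;>
    (rw [← e]; group)

theorem conjFrame_t {g : G} (hg : g ∈ D.C) (V : GW.Frame G) (hV : V.t = D.t) : (conjFrame g V).t = D.t := by
  show g * V.t * g⁻¹ = D.t
  rw [hV, mul_inv_eq_iff_eq_mul.2 (D.mem_C.1 hg)]

/-- In a subgroup a rotated four-group lies in every subgroup of index two. -/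
theorem mem_index_two {V : GW.Frame G} {H : Subgroup G} (hr : Rot V H) {K : Subgroup H} (hK : K.index = 2) :
    (⟨V.t, hr.1 V.t_mem_U⟩ : H) ∈ K ∧ (⟨V.u, hr.1 V.u_mem_U⟩ : H) ∈ K := by
  obtain ⟨hU, g, hg, h1, h2⟩ := hr
  haveI := Subgroup.normal_of_index_eq_two hK
  set t : H := ⟨V.t, hU V.t_mem_U⟩
  set u : H := ⟨V.u, hU V.u_mem_U⟩
  have hconj : ∀ x : H, x ∈ K ↔ (⟨g, hg⟩ : H) * x * (⟨g, hg⟩ : H)⁻¹ ∈ K := fun x =>
    ⟨fun h => Normal.conj_mem inferInstance x h _, fun h => by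
      simpa [mul_assoc] using Normal.conj_mem (H := K) inferInstance _ h (⟨g, hg⟩ : H)⁻¹⟩
  have a1 : t ∈ K ↔ u ∈ K := by
    rw [hconj t, show (⟨g, hg⟩ : H) * t * (⟨g, hg⟩ : H)⁻¹ = u from Subtype.ext h1]
  have a2 : u ∈ K ↔ t * u ∈ K := by
    rw [hconj u, show (⟨g, hg⟩ : H) * u * (⟨g, hg⟩ : H)⁻¹ = t * u from Subtype.ext h2]
  rw [Subgroup.mul_mem_iff_of_index_two hK] at a2
  have hu : u ∈ K := a2.2 a1
  exact ⟨a1.2 hu, hu⟩

variable {p : ℕ}

/-- In the centraliser of a `p`-element `a` of `O` each involution of `C` other than `t` lies in a rotated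
four-group with `t`, given the same for the fixed elements of the two standard four-groups. -/
theorem exists_rot_through (hf₁ : ∀ A : Subgroup G, A ≤ D.four₁.W → IsPGroup p A → A ≠ ⊥ →
      Rot D.four₁ (centralizer (A : Set G)))
    (hf₂ : ∀ A : Subgroup G, A ≤ D.four₂.W → IsPGroup p A → A ≠ ⊥ → Rot D.four₂ (centralizer (A : Set G)))
    {a v : G} (ha : a ∈ D.O) (hap : IsPGroup p (zpowers a)) (ha1 : a ≠ 1) (hv : v ∈ D.C) (hv2 : orderOf v = 2)
    (hvt : v ≠ D.t) (hva : v * a = a * v) :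
    ∃ V : GW.Frame G, V.t = D.t ∧ V.u = v ∧ Rot V (centralizer ({a} : Set G)) := by
  obtain ⟨c, hc, h⟩ := exists_conj_reflection D hv hv2 hvt
  have main : ∀ (V₀ : GW.Frame G), V₀.t = D.t → c * V₀.u * c⁻¹ = v →
      (∀ A : Subgroup G, A ≤ V₀.W → IsPGroup p A → A ≠ ⊥ → Rot V₀ (centralizer (A : Set G))) →
      ∃ V : GW.Frame G, V.t = D.t ∧ V.u = v ∧ Rot V (centralizer ({a} : Set G)) := by
    intro V₀ h0 hcv hf
    refine ⟨conjFrame c V₀, conjFrame_t D hc V₀ h0, hcv, ?_⟩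
    set b := c⁻¹ * a * c
    have hbO : b ∈ V₀.O := by
      have : V₀.O = D.O := by show Core (centralizer {V₀.t}) = Core (centralizer {D.t}); rw [h0]
      rw [this]
      exact (mem_normalizer_iff''.1 (D.C_le_normalizer_O hc) a).1 ha
    have hbu : b * V₀.u = V₀.u * b := by
      calc b * V₀.u = c⁻¹ * (a * (c * V₀.u * c⁻¹)) * c := by simp only [b]; group
        _ = c⁻¹ * (c * V₀.u * c⁻¹ * a) * c := by rw [hcv, hva]
        _ = V₀.u * b := by simp only [b]; group
    have hb := hf (zpowers b) (zpowers_le.2 (V₀.mem_W.2 ⟨hbO, hbu⟩)) (by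
        have hz : zpowers b = (zpowers a).map (MulAut.conj c⁻¹).toMonoidHom := by
          rw [MonoidHom.map_zpowers]; simp [b]
        rw [hz]
        exact hap.map _)
      (by rw [Ne, zpowers_eq_bot]; exact fun e => ha1 (by
            calc a = c * b * c⁻¹ := by simp only [b]; group
              _ = 1 := by rw [e]; group))
    rw [zpowers_eq_closure, centralizer_closure] at hb
    refine hb.conj c fun x hx => mem_centralizer_singleton_iff.2 ?_
    have hx' := mem_centralizer_singleton_iff.1 hx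
    calc c * x * c⁻¹ * a = c * (x * b) * c⁻¹ := by simp only [b]; group
      _ = c * (b * x) * c⁻¹ := by rw [hx']
      _ = a * (c * x * c⁻¹) := by simp only [b]; group
  rcases h with e | e
  · exact main D.four₁ rfl e hf₁
  · exact main D.four₂ rfl e hf₂

/-- The centraliser of a fixed `p`-element of `O` has no subgroup of index two. -/
theorem no_index_two (hm : Minimal G) (hf₁ : ∀ A : Subgroup G, A ≤ D.four₁.W → IsPGroup p A → A ≠ ⊥ →
      Rot D.four₁ (centralizer (A : Set G)))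
    (hf₂ : ∀ A : Subgroup G, A ≤ D.four₂.W → IsPGroup p A → A ≠ ⊥ → Rot D.four₂ (centralizer (A : Set G)))
    {a : G} (haW : a ∈ D.four₁.W) (hap : IsPGroup p (zpowers a)) (ha1 : a ≠ 1)
    {H : Subgroup G} (hHa : H = centralizer ({a} : Set G)) (K : Subgroup H) : K.index ≠ 2 := by
  classical
  intro hK
  haveI : Fact (Nat.Prime 2) := ⟨Nat.prime_two⟩
  have hrot : Rot D.four₁ H := by
    have h := hf₁ (zpowers a) (zpowers_le.2 haW) hap (by rwa [Ne, zpowers_eq_bot])
    rwa [zpowers_eq_closure, centralizer_closure, ← hHa] at h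
  obtain ⟨ht, hr⟩ := mem_index_two hrot hK
  set X := H ⊓ D.four₁.C with hX
  have hUX : D.four₁.U ≤ X := le_inf hrot.1 D.four₁.U_le_C
  obtain ⟨P, hP⟩ := (D.four₁.isPGroup_U.comap_subtype (K := X)).exists_le_sylow
  set Pg := (P : Subgroup X).map X.subtype with hPg
  have hPgp : IsPGroup 2 Pg := P.2.map _
  have hPX : Pg ≤ X := map_subtype_le _
  have hrP : D.r ∈ Pg := ⟨⟨D.r, hUX D.four₁.u_mem_U⟩, hP (mem_subgroupOf.2 D.four₁.u_mem_U), rfl⟩
  have hinv : ∀ x ∈ Pg, ∀ hxH : x ∈ H, x * x = 1 → (⟨x, hxH⟩ : H) ∈ K := by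
    intro x hx hxH hxx
    rcases Cfsg.Lib.GenDihedral.two_or_one hxx with e | e
    · subst e; exact one_mem K
    by_cases hxt : x = D.t
    · subst hxt; exact ht
    obtain ⟨V, -, hVu, hV⟩ := exists_rot_through D hf₁ hf₂ (D.four₁.W_le haW) hap ha1 (mem_inf.1 (hPX hx)).2 e hxt
      (mem_centralizer_singleton_iff.1 (hHa ▸ hxH))
    rw [← hHa] at hV
    subst hVu
    exact (mem_index_two hV hK).2
  have hPK : ∀ x ∈ Pg, ∀ hxH : x ∈ H, (⟨x, hxH⟩ : H) ∈ K := by
    obtain ⟨c, hc, hcS⟩ := exists_conj_S D hPgp (hPX.trans inf_le_right)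
    have hback : ∀ y, c * y * c⁻¹ * (c * y * c⁻¹) = 1 → y * y = 1 := fun y h => by
      rw [conj_mul] at h
      exact conj_eq_one_iff.1 h
    intro x hx hxH
    rcases sq_S D _ (hcS x hx) with h | h
    swap
    · exact hinv x hx hxH (hback x h)
    rcases sq_S D _ (hcS _ (mul_mem hx hrP)) with h' | h'
    · -- the image of `r` would be a power of `s`
      refine absurd ?_ (fun e : c * D.r * c⁻¹ = D.t => D.t_ne_r ((MulAut.conj c).injective
        (show c * D.t * c⁻¹ = c * D.r * c⁻¹ by rw [e, mul_inv_eq_iff_eq_mul.2 (D.mem_C.1 hc)])))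
      have hz : c * D.r * c⁻¹ ∈ zpowers D.s := by
        have := mul_mem (inv_mem h) h'
        rwa [show (c * x * c⁻¹)⁻¹ * (c * (x * D.r) * c⁻¹) = c * D.r * c⁻¹ by group] at this
      rcases D.data.sq_zpowers hz (by rw [conj_mul, Cfsg.Lib.GenDihedral.mul_self_of_two D.r_order]; group)
        with e | e
      · have h2 := D.r_order
        rw [conj_eq_one_iff.1 e, orderOf_one] at h2; omega
      · exact e.trans D.t_eq
    · have hrH : D.r ∈ H := hrot.1 D.four₁.u_mem_U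
      have h1 := mul_mem (hinv _ (mul_mem hx hrP) (mul_mem hxH hrH) (hback _ h')) hr
      have e : (⟨x * D.r, mul_mem hxH hrH⟩ : H) * ⟨D.r, hrH⟩ = ⟨x, hxH⟩ := Subtype.ext (by
        show x * D.r * D.r = x
        rw [mul_assoc, Cfsg.Lib.GenDihedral.mul_self_of_two D.r_order, mul_one])
      rwa [e] at h1
  -- `Pg` is a Sylow subgroup of `H`
  have hle : Pg ≤ K.map H.subtype := fun x hx => ⟨⟨x, (mem_inf.1 (hPX hx)).1⟩, hPK x hx _, rfl⟩
  have hd := card_dvd_of_le hle
  rw [card_map_of_injective H.subtype_injective, card_map_of_injective X.subtype_injective,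
    P.card_eq_multiplicity, hX, two_part_inf (no_eight hm) hrot] at hd
  have h2 := Nat.mul_dvd_mul_right hd 2
  rw [← pow_succ, show Nat.card K * 2 = Nat.card H by rw [← hK, K.card_mul_index]] at h2
  have := (Nat.prime_two.pow_dvd_iff_le_factorization Nat.card_pos.ne').1 h2
  omega

/-- An invariant moved Sylow subgroup. -/
theorem exists_sylData (hp : p.Prime) {x : G} (hx : x ∈ D.four₁.R p) (hxu : D.r * x * D.r⁻¹ ≠ x) :
    ∃ S : Subgroup G, SylData D.four₁ p S ∧ D.S ≤ normalizer (S : Set G) ∧ D.four₁.R p ≤ S ∧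
      ∃ y ∈ S, D.r * y * D.r⁻¹ ≠ y := by
  haveI : Fact p.Prime := ⟨hp⟩
  haveI : Fact (Nat.Prime 2) := ⟨Nat.prime_two⟩
  have hcop : (Nat.card D.S).Coprime (Nat.card D.O) := by
    rw [D.card_S]; exact Nat.Coprime.pow_left _ (Nat.coprime_two_left.2 D.odd_card_O)
  obtain ⟨P, hP⟩ := Cfsg.Lib.Coprime.exists_invariant_sylow (D.S_le_C.trans D.C_le_normalizer_O) hcop
    (Or.inl (by haveI := D.isPGroup_S.isNilpotent; infer_instance)) p
  refine ⟨(P : Subgroup D.O).map D.O.subtype, ⟨hp, fun h => hxu ?_, map_subtype_le _, P.2.map _, ?_⟩, hP,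
    map_mono (Cfsg.Lib.Coprime.pCore_le_sylow p P),
    x, map_mono (Cfsg.Lib.Coprime.pCore_le_sylow p P) hx, hxu⟩
  · have h1 : x = 1 := mem_bot.1 (h ▸ hx)
    rw [h1]; group
  · rw [show D.four₁.O = D.O from rfl, relIndex, subgroupOf,
      comap_map_eq_self_of_injective D.O.subtype_injective]
    exact P.not_dvd_index

end Cfsg.Lib.GWD.Mixed
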