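import Cfsg.Agent.GWDihedral.Mixed.Split
import Cfsg.Agent.GWDihedral.Mixed.Basics
import Cfsg.Agent.GWDihedral.Local.Full
import Cfsg.Agent.GWDihedral.Proper.Top
import Cfsg.Agent.Frobenius.UniqueSubgroup

/-!
GW dihedral, mixed half: `p = 3`, `n = 3` and `r s` centralising `O_3(O)`.
-/

set_option autoImplicit false
set_option linter.unusedSectionVars false

namespace Cfsg.Lib.GWD.Mixed

open Subgroup

universe u

variable {G : Type u} [Group G] [Finite G]

/-- A noncyclic `p`-group, `p` odd, has a noncyclic abelian subgroup. -/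
theorem exists_noncyclic_commutative {p : ℕ} [Fact p.Prime] (hp2 : p ≠ 2) {R : Subgroup G} (hR : IsPGroup p R)
    (hc : ¬ IsCyclic R) : ∃ E ≤ R, IsMulCommutative E ∧ ¬ IsCyclic E := by
  have hne : ∃ x y : R, orderOf x = p ∧ orderOf y = p ∧ y ∉ zpowers x := by
    by_contra h
    push Not at h
    exact hc ((Cfsg.Lib.UniqueSub.isCyclic_or_quaternion hR h).resolve_right fun e => hp2 e.1)
  haveI : Nontrivial R := by
    obtain ⟨x, y, hx, -, -⟩ := hne
    exact ⟨⟨x, 1, fun e => by rw [e, orderOf_one] at hx; exact (Fact.out : p.Prime).one_lt.ne hx⟩⟩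
  obtain ⟨z, -, hzc, hzo⟩ := Cfsg.Lib.PGroups.exists_mem_center_of_normal_ne_bot hR (N := ⊤) top_ne_bot
  obtain ⟨y, hy, hyz⟩ : ∃ y : R, orderOf y = p ∧ y ∉ zpowers z := by
    obtain ⟨x, y, hx, hy, hxy⟩ := hne
    by_cases h : x ∈ zpowers z
    · refine ⟨y, hy, fun h' => hxy ?_⟩
      have e : zpowers x = zpowers z := eq_of_le_of_card_ge (zpowers_le.2 h)
        (by rw [Nat.card_zpowers, Nat.card_zpowers, hx, hzo])
      rwa [e]
    · exact ⟨x, hx, h⟩
  set E := closure ({(z : G), (y : G)} : Set G) with hE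
  have hcomm : Commute (z : G) (y : G) := congrArg Subtype.val (mem_center_iff.1 hzc y).symm
  haveI : IsMulCommutative E := Subgroup.isMulCommutative_closure (k := {(z : G), (y : G)}) fun a ha b hb => by
    rcases ha with rfl | rfl <;> rcases hb with rfl | rfl
    exacts [rfl, hcomm.eq, hcomm.eq.symm, rfl]
  refine ⟨E, (closure_le _).2 (Set.insert_subset z.2 (Set.singleton_subset_iff.2 y.2)), inferInstance, fun hEc => ?_⟩
  classical
  letI := Fintype.ofFinite E
  haveI := hEc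
  set a : E := ⟨z, subset_closure (Set.mem_insert _ _)⟩
  set b : E := ⟨y, subset_closure (Set.mem_insert_of_mem _ rfl)⟩
  have ha : orderOf a = p := by rw [Subgroup.orderOf_mk, Subgroup.orderOf_coe, hzo]
  have hb : orderOf b = p := by rw [Subgroup.orderOf_mk, Subgroup.orderOf_coe, hy]
  have h := IsCyclic.card_pow_eq_one_le (α := E) (Fact.out : p.Prime).pos
  refine hyz ?_
  by_contra hyz
  have hb' : b ∉ zpowers a := fun hm => hyz (by
    obtain ⟨k, hk⟩ := mem_zpowers_iff.1 hm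
    exact mem_zpowers_iff.2 ⟨k, Subtype.ext (by simpa [a, b] using congrArg Subtype.val hk)⟩)
  have hsub : insert b ((zpowers a : Subgroup E) : Set E).toFinset ⊆
      Finset.univ.filter fun x : E => x ^ p = 1 := by
    intro x hx
    rw [Finset.mem_filter]
    refine ⟨Finset.mem_univ _, ?_⟩
    rcases Finset.mem_insert.1 hx with rfl | hx
    · rw [← hb, pow_orderOf_eq_one]
    · obtain ⟨k, rfl⟩ := mem_zpowers_iff.1 (Set.mem_toFinset.1 hx)
      rw [← zpow_natCast, ← zpow_mul, mul_comm, zpow_mul, zpow_natCast, ← ha, pow_orderOf_eq_one, one_zpow]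
  have := (Finset.card_le_card hsub).trans h
  rw [Finset.card_insert_of_notMem (by simpa using hb')] at this
  have e : ((zpowers a : Subgroup E) : Set E).toFinset.card = p := by
    rw [Set.toFinset_card, ← Nat.card_eq_fintype_card, ← ha]
    exact Nat.card_zpowers a
  omega

variable (D : GWD.Frame G)

/-- If `n = 3` and `r s` centralises a noncyclic `O_3(O)`, then `O` centralises `O_3(O)`. -/
theorem O_centralizes_three (hm : Minimal G) (hmax : IsCoatom D.C) (hn : D.n = 3)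
    (hfix : ∀ y ∈ D.four₁.R 3, y * (D.r * D.s) = D.r * D.s * y) (hc : ¬ IsCyclic (D.four₁.R 3)) :
    ∀ o ∈ D.O, ∀ x ∈ D.four₁.R 3, o * x = x * o := by
  haveI : Fact (Nat.Prime 3) := ⟨Nat.prime_three⟩
  obtain ⟨E, hE, hEcomm, hEc⟩ := exists_noncyclic_commutative (p := 3) (by norm_num)
    ((Cfsg.Lib.Components.isPGroup_pCore 3).map _) hc
  refine cent_of_split D hm hmax hn (hm.torusAll D.four₂) (p := 3) (by norm_num) ?_ hfix hE hEc
  intro q hq hq3 ⟨x, hx, hne⟩ X hX hXU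
  have hR : D.four₂.R q ≠ ⊥ := fun e => hne (by rw [e, mem_bot] at hx; rw [hx]; group)
  haveI : Fact q.Prime := ⟨hq⟩
  obtain ⟨P⟩ := (inferInstance : Nonempty (Sylow q D.O))
  exact (local_any (F := D.four₂) hm hmax (fun V => hm.properSpec V) (S := (P : Subgroup D.O).map D.O.subtype)
    ⟨hq, hR, map_subtype_le _, P.2.map _, by
      rw [show D.four₂.O = D.O from rfl, relIndex, subgroupOf,
        comap_map_eq_self_of_injective D.O.subtype_injective]
      exact P.not_dvd_index⟩ hq3).2.2 X hX hXU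

/-- So there is no prime of kind `(s)` or `(i)` there. -/
theorem not_kinds_three (hm : Minimal G) (hmax : IsCoatom D.C) (hn : D.n = 3)
    (hfix : ∀ y ∈ D.four₁.R 3, y * (D.r * D.s) = D.r * D.s * y) :
    ¬ D.four₁.KindS 3 ∧ ¬ D.four₁.KindI 3 := by
  set F := D.four₁
  have hR : IsPGroup 3 (F.R 3) := (Cfsg.Lib.Components.isPGroup_pCore 3).map _
  refine ⟨?_, ?_⟩
  · rintro ⟨-, y, hy, hyu, -, x, hx, hne⟩
    by_cases hc : IsCyclic (F.R 3)
    swap
    · exact hne (O_centralizes_three D hm hmax hn hfix hc y hy x hx)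
    haveI := hc
    obtain ⟨⟨g, hg⟩, hgen⟩ := IsCyclic.exists_generator (α := F.R 3)
    have hpow : ∀ a ∈ F.R 3, ∃ k : ℤ, g ^ k = a := fun a ha => by
      obtain ⟨k, hk⟩ := mem_zpowers_iff.1 (hgen ⟨a, ha⟩)
      exact ⟨k, congrArg Subtype.val hk⟩
    have huR := Cfsg.Lib.GW.Mixed.u_mem_normalizer_R (F := F) 3
    have hyR := Cfsg.Lib.GW.Mixed.O_le_normalizer_R (F := F) 3 hy
    obtain ⟨a, ha⟩ := hpow _ ((mem_normalizer_iff.1 hyR g).1 hg)
    obtain ⟨b, hb⟩ := hpow _ ((mem_normalizer_iff.1 huR g).1 hg)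
    have hyy : y * y * g * (y * y)⁻¹ = g := by
      have e1 : F.u * (y * g * y⁻¹) * F.u⁻¹ = y⁻¹ * (F.u * g * F.u⁻¹) * y := by
        calc F.u * (y * g * y⁻¹) * F.u⁻¹ =
              (F.u * y * F.u⁻¹) * (F.u * g * F.u⁻¹) * (F.u * y * F.u⁻¹)⁻¹ := by group
          _ = _ := by rw [hyu, inv_inv]
      have e2 : F.u * (y * g * y⁻¹) * F.u⁻¹ = y * (F.u * g * F.u⁻¹) * y⁻¹ := by
        rw [← ha, ← conj_zpow, ← hb, ← conj_zpow, ← ha, ← zpow_mul, ← zpow_mul, mul_comm]
      have e3 : y * y * (F.u * g * F.u⁻¹) * (y * y)⁻¹ = F.u * g * F.u⁻¹ := by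
        calc y * y * (F.u * g * F.u⁻¹) * (y * y)⁻¹ = y * (y * (F.u * g * F.u⁻¹) * y⁻¹) * y⁻¹ := by group
          _ = y * (y⁻¹ * (F.u * g * F.u⁻¹) * y) * y⁻¹ := by rw [← e2, e1]
          _ = F.u * g * F.u⁻¹ := by group
      obtain ⟨c, hc'⟩ := hpow _ ((mem_normalizer_iff''.1 huR g).1 hg)
      calc y * y * g * (y * y)⁻¹ = y * y * (F.u * g ^ c * F.u⁻¹) * (y * y)⁻¹ := by rw [hc']; group
        _ = (y * y * (F.u * g * F.u⁻¹) * (y * y)⁻¹) ^ c := by rw [conj_zpow, conj_zpow]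
        _ = F.u * (F.u⁻¹ * g * F.u) * F.u⁻¹ := by rw [e3, conj_zpow, hc']
        _ = g := by group
    obtain ⟨k, rfl⟩ := hpow x hx
    exact hne ((Cfsg.Lib.GW.Mixed.commute_of_sq (Cfsg.Lib.GW.Frame.odd_orderOf F.odd_card_O hy)
      (Commute.zpow_right (mul_inv_eq_iff_eq_mul.1 hyy) k)).eq)
  · rintro ⟨-, -, a, ha, b, hb, -, -, hne⟩
    refine hne (O_centralizes_three D hm hmax hn hfix (fun hc => hne ?_) a (F.R_le 3 ha) b hb)
    haveI := hc
    letI := IsCyclic.commGroup (α := F.R 3)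
    exact congrArg Subtype.val (mul_comm (⟨a, ha⟩ : F.R 3) ⟨b, hb⟩)

end Cfsg.Lib.GWD.Mixed
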