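import Cfsg.Agent.GWDihedral.Mixed.Elementary
import Cfsg.Agent.GWDihedral.Mixed.Split3
import Cfsg.Agent.GWDihedral.Ident.Degrees

/-!
GW dihedral, the mixed half of piece C: `NoMixed`.
-/

set_option autoImplicit false
set_option linter.unusedSectionVars false

namespace Cfsg.Lib.GWD

open Subgroup
open Cfsg.Lib.GW.Mixed (u_mem_normalizer_R commute_of_conj_fixed O_le_normalizer_R)

universe u

variable {G : Type u} [Group G] [Finite G] (D : GWD.Frame G)

namespace Mixed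

/-- A prime with a moved `O_p(O)` having a nontrivial fixed point is moved by both reflections, unless `p = 3`, `n = 3`
and `r s` centralises `O_3(O)`. -/
theorem full_or_three (hm : Minimal G) (hmax : IsCoatom D.C) {p : ℕ} [Fact p.Prime] {x a : G}
    (hx : x ∈ D.four₁.R p) (hxu : D.r * x * D.r⁻¹ ≠ x) (ha : a ∈ D.four₁.R p) (hau : D.r * a * D.r⁻¹ = a)
    (ha1 : a ≠ 1) :
    (∃ x' ∈ D.four₁.R p, x' * (D.r * D.s) ≠ D.r * D.s * x') ∨
      ((p = 3 ∧ D.n = 3) ∧ ∀ y ∈ D.four₁.R p, y * (D.r * D.s) = D.r * D.s * y) := by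
  by_cases hfix : ∀ y ∈ D.four₁.R p, y * (D.r * D.s) = D.r * D.s * y
  swap
  · push Not at hfix; exact Or.inl hfix
  by_cases h3 : p = 3 ∧ D.n = 3
  · exact Or.inr ⟨h3, hfix⟩
  have h3' : p ≠ 3 ∨ 4 ≤ D.n := by
    by_contra h
    push Not at h
    exact h3 ⟨h.1, by have := D.three_le; omega⟩
  obtain ⟨S, hd, hSn, -, -⟩ := exists_sylData D (Fact.out : p.Prime) hx hxu
  exact (nonfull_false D hm (hm.invertsSpec D.four₁) hd.ne_two h3'
    (D.cent_inv_of_ne_three hm hmax (fun V => hm.properSpec V) hd hSn h3').2.1 hfix hx hxu ha hau ha1).elim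

/-- `[O, r]` moving `O_p(O)`, so does `r`. -/
theorem exists_moved {p : ℕ} {y : G} (hy : y ∈ D.O) (hyu : D.r * y * D.r⁻¹ = y⁻¹)
    (hmove : ∃ r ∈ D.four₁.R p, y * r ≠ r * y) : ∃ x ∈ D.four₁.R p, D.r * x * D.r⁻¹ ≠ x := by
  by_contra hno
  push Not at hno
  obtain ⟨r, hr, hne⟩ := hmove
  exact hne (commute_of_conj_fixed (F := D.four₁) hy hyu (hno r hr)
    (hno _ ((mem_normalizer_iff.1 (O_le_normalizer_R (F := D.four₁) p hy) r).1 hr))).eq

end Mixed

/-- PIECE C, mixed half: no prime of mixed kind or kind `(i)` for the four-group with the smaller centraliser. -/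
theorem noMixed (hm : Minimal G) : D.NoMixed := by
  intro hw _ hmax p
  refine ⟨?_, ?_⟩
  · rintro ⟨⟨hp, y, hy, hyu, hyp, hmove⟩, a, ha, hao, hau, hac⟩
    haveI : Fact p.Prime := ⟨hp⟩
    obtain ⟨x, hx, hxu⟩ := Mixed.exists_moved D hy hyu hmove
    have ha1 : a ≠ 1 := fun h => hp.one_lt.ne (by rw [← hao, h, orderOf_one])
    rcases Mixed.full_or_three D hm hmax hx hxu ha hau ha1 with ⟨x', hx', hx'u⟩ | ⟨⟨rfl, hn⟩, hfix⟩
    · obtain ⟨S, E⟩ := Mixed.exists_env D hm hw hmax (D.bounds hm) hp hx hxu hx' hx'u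
      exact E.mixed_false hy hyu hyp hmove ha hao hau hac
    · exact (Mixed.not_kinds_three D hm hmax hn hfix).1 ⟨hp, y, hy, hyu, hyp, hmove⟩
  · intro hk
    obtain ⟨hp, -, a, ha, b, hb, hau, hbu, hab⟩ := id hk
    haveI : Fact p.Prime := ⟨hp⟩
    have hodd : ∀ x ∈ D.four₁.R p, Odd (orderOf x) := fun x hx =>
      GW.Frame.odd_orderOf D.four₁.odd_card_O (D.four₁.R_le p hx)
    have hmov : D.r * a * D.r⁻¹ ≠ a := fun h => hab (by
      rw [GW.Frame.eq_one_of_fixed_inverted (hodd a ha) h hau, one_mul, mul_one])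
    -- some element of `R` is fixed
    obtain ⟨a₀, ha₀, ha₀u, ha₀1⟩ : ∃ a₀ ∈ D.four₁.R p, D.r * a₀ * D.r⁻¹ = a₀ ∧ a₀ ≠ 1 := by
      by_contra hno
      push Not at hno
      have hinv := Cfsg.Lib.GW.Mixed.Invol.inverts D.four₁.u_sq (u_mem_normalizer_R (F := D.four₁) p)
        fun x hx hxu => hno x hx (mul_inv_eq_iff_eq_mul.2 hxu)
      have h1 := hinv _ ((D.four₁.R p).mul_mem ha hb)
      rw [← conj_mul, hau, hbu, mul_inv_rev] at h1
      exact hab (by simpa using congrArg (·⁻¹) h1.symm)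
    rcases Mixed.full_or_three D hm hmax ha hmov ha₀ ha₀u ha₀1 with ⟨x', hx', hx'u⟩ | ⟨⟨rfl, hn⟩, hfix⟩
    · obtain ⟨S, E⟩ := Mixed.exists_env D hm hw hmax (D.bounds hm) hp ha hmov hx' hx'u
      exact hab (E.kindI_false ha hb hau hbu)
    · exact (Mixed.not_kinds_three D hm hmax hn hfix).2 hk

end Cfsg.Lib.GWD
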