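import Cfsg.Agent.GWDihedral.Mixed.Basics
import Cfsg.Agent.FourGroupGW.Mixed.Setup
import Cfsg.Agent.Components.PxQ

/-!
GW dihedral, mixed half: an invariant subgroup of a core moved by `u` excludes elements inverted by `t`, and a prime
whose Sylow subgroup is centralised by `r s` is not of the kinds in question (`p ≠ 3` or `n ≥ 4`).
-/

set_option autoImplicit false
set_option linter.unusedSectionVars false
set_option linter.style.haveILetI false

namespace Cfsg.Lib.GWD.Mixed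

open Subgroup
open Cfsg.Lib.GW (Core le_normalizer_core core_le)
open Cfsg.Lib.GW.Mixed.Invol (inverted_div inverted_zpow)

universe u

variable {G : Type u} [Group G] [Finite G]

/-- If every invariant `p`-group is centralised by an involution of the four-group and `X ≤ Core H` is moved by
`u` and centralised by `t`, then `H` has no `p`-element inverted by `t` and centralised by `t u`. -/
theorem moved_core (V : GW.Frame G) {p : ℕ} [Fact p.Prime] (hp2 : p ≠ 2)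
    (hcent : ∀ X : Subgroup G, IsPGroup p X → V.U ≤ normalizer (X : Set G) →
      ∃ s ∈ V.U, s ≠ 1 ∧ X ≤ centralizer {s})
    {H : Subgroup G} (hU : V.U ≤ H) {X : Subgroup G} (hXp : IsPGroup p X) (hX : X ≤ Core H)
    (hXU : V.U ≤ normalizer (X : Set G)) (hXt : X ≤ centralizer {V.t}) (hmov : ∃ x ∈ X, V.u * x * V.u⁻¹ ≠ x)
    {z : G} (hz : z ∈ H) (hzp : IsPGroup p (zpowers z)) (hz1 : z ≠ 1) (hzt : V.t * z * V.t⁻¹ = z⁻¹)
    (hzv : V.t * V.u * z = z * (V.t * V.u)) : False := by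
  obtain ⟨x₀, hx₀, hne⟩ := hmov
  have hzo : Odd (orderOf z) := Cfsg.Lib.GW.Frame.odd_orderOf
    (Cfsg.Lib.GW.Frame.odd_of_pgroup hp2 hzp) (mem_zpowers z)
  -- an involution centralising `x₀` is `t`
  have honly : ∀ Y : Subgroup G, x₀ ∈ Y → ∀ s ∈ V.U, s ≠ 1 → Y ≤ centralizer {s} → Y ≤ centralizer {V.t} := by
    intro Y hY s hs hs1 hle
    have hx := mem_centralizer_singleton_iff.1 (hle hY)
    have hxt := mem_centralizer_singleton_iff.1 (hXt hx₀)
    rcases V.mem_U.1 hs with rfl | rfl | rfl | rfl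
    · exact absurd rfl hs1
    · exact hle
    · exact absurd (mul_inv_eq_iff_eq_mul.2 hx.symm) hne
    · refine absurd (mul_inv_eq_iff_eq_mul.2 ?_) hne
      calc V.u * x₀ = V.t⁻¹ * (V.t * V.u * x₀) := by group
        _ = V.t⁻¹ * (x₀ * (V.t * V.u)) := by rw [← hx]
        _ = V.t⁻¹ * (x₀ * V.t) * V.u := by group
        _ = x₀ * V.u := by rw [hxt]; group
  have hUK : V.U ≤ normalizer (Core H : Set G) := hU.trans (le_normalizer_core H)
  have hzK : z ∈ normalizer (Core H : Set G) := le_normalizer_core H hz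
  have hUz : V.U ≤ normalizer (zpowers z : Set G) := by
    have hu : V.u * z * V.u⁻¹ = z⁻¹ := by
      calc V.u * z * V.u⁻¹ = V.t⁻¹ * (V.t * V.u * z) * V.u⁻¹ := by group
        _ = V.t⁻¹ * (z * (V.t * V.u)) * V.u⁻¹ := by rw [hzv]
        _ = V.t⁻¹ * z * V.t := by group
        _ = V.t * z * V.t⁻¹ := by rw [V.t_inv]
        _ = z⁻¹ := hzt
    rw [V.U_le_iff]
    constructor <;> rw [mem_normalizer_iff_map_conj_eq, MonoidHom.map_zpowers]
    · show zpowers (V.t * z * V.t⁻¹) = _; rw [hzt, zpowers_inv]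
    · show zpowers (V.u * z * V.u⁻¹) = _; rw [hu, zpowers_inv]
  set K := Core H ⊔ zpowers z with hK
  have hKodd : Odd (Nat.card K) := by
    have h := Cfsg.Lib.Coprime.card_sup_mul_card_inf (zpowers_le.2 hzK : zpowers z ≤ normalizer (Core H : Set G))
    have h2 : Odd (Nat.card ↥(Core H ⊔ zpowers z) * Nat.card ↥(Core H ⊓ zpowers z)) := by
      rw [h]
      exact (Cfsg.Lib.GW.Frame.odd_card_core H).mul (Cfsg.Lib.GW.Frame.odd_of_pgroup hp2 hzp)
    exact (Nat.odd_mul.1 h2).1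
  have hUKn : V.U ≤ normalizer (K : Set G) := fun v hv => by
    rw [hK, mem_normalizer_iff_map_conj_eq, Subgroup.map_sup, mem_normalizer_iff_map_conj_eq.1 (hUK hv),
      mem_normalizer_iff_map_conj_eq.1 (hUz hv)]
  obtain ⟨Q, hXQ, hQK, hQp, hQs, hQU⟩ := V.exists_sylow_over hKodd hUKn (hX.trans le_sup_left) hXp hXU
  obtain ⟨s, hs, hs1, hQc⟩ := hcent Q hQp hQU
  have hQt := honly Q (hXQ hx₀) s hs hs1 hQc
  -- `K = Core H · Q`
  have hKQ : K = Core H ⊔ Q := by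
    refine le_antisymm ?_ (sup_le le_sup_left hQK)
    have hle : Core H ⊔ Q ≤ K := sup_le le_sup_left hQK
    have h1 : (Core H ⊔ Q).relIndex K ∣ (Core H).relIndex K := relIndex_dvd_of_le_left K le_sup_left
    have h2 : (Core H ⊔ Q).relIndex K ∣ Q.relIndex K := relIndex_dvd_of_le_left K le_sup_right
    have h3 : (Core H).relIndex K ∣ Nat.card (zpowers z) := by
      have h4 := Cfsg.Lib.Coprime.card_sup_mul_card_inf (zpowers_le.2 hzK : zpowers z ≤ normalizer (Core H : Set G))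
      have h5 := relIndex_mul_relIndex ⊥ (Core H) K bot_le le_sup_left
      simp only [relIndex_bot_left] at h5
      rw [← hK, ← h5, mul_assoc] at h4
      refine ⟨Nat.card ↥(Core H ⊓ zpowers z), Nat.eq_of_mul_eq_mul_left (Nat.card_pos (α := Core H)) ?_⟩
      exact h4.symm
    obtain ⟨b, hb⟩ := IsPGroup.iff_card.1 hzp
    rw [hb] at h3
    obtain ⟨i, -, hi⟩ := (Nat.dvd_prime_pow (Fact.out : p.Prime)).1 (h1.trans h3)
    rcases i with _ | i
    · exact relIndex_eq_one.1 (by rw [hi, pow_zero])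
    · exact absurd ((dvd_pow_self p i.succ_ne_zero).trans (hi ▸ h2)) hQs
  obtain ⟨q, hq, k, hk, hzq⟩ : ∃ q ∈ Q, ∃ k ∈ Core H, z = k * q := by
    have hzK' : z ∈ K := mem_sup_right (mem_zpowers z)
    rw [hKQ, sup_comm] at hzK'
    have hQn : Q ≤ normalizer (Core H : Set G) := hQK.trans (sup_le le_normalizer (zpowers_le.2 hzK))
    obtain ⟨q, hq, k, hk, e⟩ := (Cfsg.Lib.Coprime.mem_sup_of_le_normalizer' hQn).1 (by rwa [sup_comm] at hzK')
    exact ⟨q, hq, q * k * q⁻¹, (mem_normalizer_iff.1 (hQn hq) k).1 hk, by rw [← e]; group⟩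
  have hz2 : z * z ∈ Core H := by
    have htq : V.t * q * V.t⁻¹ = q := mul_inv_eq_iff_eq_mul.2 (mem_centralizer_singleton_iff.1 (hQt hq)).symm
    have htk : V.t * k * V.t⁻¹ ∈ Core H := (mem_normalizer_iff.1 (hUK V.t_mem_U) k).1 hk
    have h : z⁻¹ = V.t * k * V.t⁻¹ * q := by
      rw [← hzt, hzq]
      calc V.t * (k * q) * V.t⁻¹ = V.t * k * V.t⁻¹ * (V.t * q * V.t⁻¹) := by group
        _ = _ := by rw [htq]
    have e : z * z = k * (V.t * k * V.t⁻¹)⁻¹ := by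
      calc z * z = z * (z⁻¹)⁻¹ := by rw [inv_inv]
        _ = k * (V.t * k * V.t⁻¹)⁻¹ := by
          rw [h]
          nth_rw 1 [hzq]
          group
    rw [e]
    exact mul_mem hk (inv_mem htk)
  have hzcore : z ∈ Core H := Cfsg.Lib.GenDihedral.mem_of_sq hzo hz2
  -- conjugate invariant Sylow subgroups of the core
  obtain ⟨Q₀, hXQ₀, hQ₀K, hQ₀p, hQ₀s, hQ₀U⟩ := V.exists_sylow_over (Cfsg.Lib.GW.Frame.odd_card_core H) hUK hX hXp hXU
  obtain ⟨Q₁, hzQ₁, hQ₁K, hQ₁p, hQ₁s, hQ₁U⟩ := V.exists_sylow_over (Cfsg.Lib.GW.Frame.odd_card_core H) hUK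
    (zpowers_le.2 hzcore) hzp hUz
  obtain ⟨s₀, hs₀, hs₀1, hQ₀c⟩ := hcent Q₀ hQ₀p hQ₀U
  have hQ₀t := honly Q₀ (hXQ₀ hx₀) s₀ hs₀ hs₀1 hQ₀c
  obtain ⟨c, -, hcU, hc⟩ := V.conj_sylow (Cfsg.Lib.GW.Frame.odd_card_core H) hUK hQ₀K hQ₀p hQ₀s hQ₀U hQ₁K hQ₁p
    hQ₁s hQ₁U
  have hz' := hzQ₁ (mem_zpowers z)
  rw [← hc] at hz'
  obtain ⟨w, hw, hwz⟩ := hz'
  have hct : Commute c V.t := (V.mem_centralizer_U.1 hcU).1
  have hzc : Commute z V.t := by
    rw [← hwz]
    exact (hct.mul_left (mem_centralizer_singleton_iff.1 (hQ₀t hw))).mul_left hct.inv_left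
  exact hz1 (Cfsg.Lib.GW.Frame.eq_one_of_fixed_inverted hzo (mul_inv_eq_iff_eq_mul.2 hzc.eq.symm) hzt)

/-- A fixed `a` and an inverted `z` in `R` with `z` centralising `a` and its image under the rotation. -/
theorem exists_pair (F : GW.Frame G) (hm : Minimal G) {p : ℕ} [Fact p.Prime] (hp2 : p ≠ 2) {x a₀ : G}
    (hx : x ∈ F.R p) (hxu : F.u * x * F.u⁻¹ ≠ x) (ha₀ : a₀ ∈ F.R p) (ha₀u : F.u * a₀ * F.u⁻¹ = a₀)
    (ha₀1 : a₀ ≠ 1) :
    ∃ a ∈ F.R p, a ∈ F.W ∧ a ≠ 1 ∧ ∃ z ∈ F.R p, F.u * z * F.u⁻¹ = z⁻¹ ∧ z ≠ 1 ∧ Commute a z ∧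
      Commute (F.σ * a * F.σ⁻¹) z := by
  have hRp : IsPGroup p (F.R p) := (Cfsg.Lib.Components.isPGroup_pCore p).map _
  have huR : F.u ∈ normalizer (F.R p : Set G) := Cfsg.Lib.GW.Mixed.u_mem_normalizer_R p
  have hW : ∀ a ∈ F.R p, F.u * a * F.u⁻¹ = a → a ∈ F.W ∧ F.σ * a * F.σ⁻¹ ∈ F.W ∧
      IsPGroup p (zpowers (F.σ * a * F.σ⁻¹)) ∧ zpowers (F.σ * a * F.σ⁻¹) ≤ normalizer (F.R p : Set G) := by
    intro a ha hau
    have haW : a ∈ F.W := F.mem_W.2 ⟨F.R_le p ha, (mul_inv_eq_iff_eq_mul.1 hau).symm⟩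
    have h' := (mem_normalizer_iff.1 (σ_mem_normalizer_W F hm) a).1 haW
    refine ⟨haW, h', ?_, zpowers_le.2 (Cfsg.Lib.GW.Mixed.O_le_normalizer_R p (F.W_le h'))⟩
    have hz : zpowers (F.σ * a * F.σ⁻¹) = (zpowers a).map (MulAut.conj F.σ).toMonoidHom := by
      rw [MonoidHom.map_zpowers]; simp
    rw [hz]
    exact (hRp.to_le (zpowers_le.2 ha)).map _
  by_cases hcase : ∃ a ∈ F.R p, F.u * a * F.u⁻¹ = a ∧ a ≠ 1 ∧ ∀ y ∈ F.R p, a * y = y * a
  · obtain ⟨a, ha, hau, ha1, hac⟩ := hcase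
    obtain ⟨haW, ha'W, ha'p, ha'n⟩ := hW a ha hau
    set a' := F.σ * a * F.σ⁻¹
    obtain ⟨w, hw, hwc, hwu⟩ : ∃ w ∈ F.R p, Commute a' w ∧ F.u * w * F.u⁻¹ ≠ w := by
      by_contra hno
      push Not at hno
      refine hxu (mul_inv_eq_iff_eq_mul.2 ?_)
      have hcop : (orderOf F.u).Coprime p := by
        rw [F.u_order]; exact (Nat.coprime_primes Nat.prime_two Fact.out).2 (Ne.symm hp2)
      have hua : F.u ∈ centralizer (zpowers a' : Set G) := by
        rw [Cfsg.Lib.Coprime.centralizer_zpowers]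
        exact mem_centralizer_singleton_iff.2 (F.mem_W.1 ha'W).2.symm
      have h := Cfsg.Lib.Components.pxq_element hcop ha'p hua (F.R p) hRp ha'n huR (fun w hw =>
        mem_centralizer_singleton_iff.2 (mul_inv_eq_iff_eq_mul.1 (hno w hw.1
          (mem_centralizer_iff.1 hw.2 a' (mem_zpowers a')))).symm) hx
      exact (mem_centralizer_singleton_iff.1 h).symm
    refine ⟨a, ha, haW, ha1, w⁻¹ * (F.u * w * F.u⁻¹), ?_, inverted_div F.u_sq w, fun e => hwu ?_, ?_, ?_⟩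
    · exact mul_mem (inv_mem hw) ((mem_normalizer_iff.1 huR w).1 hw)
    · exact (inv_mul_eq_one.1 e).symm
    · exact hac _ (mul_mem (inv_mem hw) ((mem_normalizer_iff.1 huR w).1 hw))
    · have hau' : Commute a' F.u := (F.mem_W.1 ha'W).2
      exact hwc.inv_right.mul_right ((hau'.mul_right hwc).mul_right hau'.inv_right)
  · push Not at hcase
    obtain ⟨haW, ha'W, ha'p, ha'n⟩ := hW a₀ ha₀ ha₀u
    set Z := F.R p ⊓ centralizer (F.R p : Set G)
    set K := F.R p ⊔ zpowers (F.σ * a₀ * F.σ⁻¹)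
    have hKp : IsPGroup p K := hRp.to_sup_of_normal_left' ha'p ha'n
    have hKR : K ≤ normalizer (F.R p : Set G) := sup_le le_normalizer ha'n
    have hKZ : K ≤ normalizer (Z : Set G) :=
      (le_inf hKR (hKR.trans (Cfsg.Lib.Thompson.normalizer_le_normalizer_centralizer _))).trans
        inf_normalizer_le_normalizer_inf
    have hZn : F.u ∈ normalizer (Z : Set G) :=
      inf_normalizer_le_normalizer_inf ⟨huR, Cfsg.Lib.Thompson.normalizer_le_normalizer_centralizer _ huR⟩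
    have hZinv : ∀ z ∈ Z, F.u * z * F.u⁻¹ = z⁻¹ := Cfsg.Lib.GW.Mixed.Invol.inverts F.u_sq hZn fun z hz hzu => by
      by_contra hz1
      obtain ⟨y, hy, hne⟩ := hcase z hz.1 (mul_inv_eq_iff_eq_mul.2 hzu) hz1
      exact hne (mem_centralizer_iff.1 hz.2 y hy).symm
    obtain ⟨w, hwR, hwc, hwo⟩ := Cfsg.Lib.PGroups.exists_mem_center_of_normal_ne_bot hRp (N := ⊤) (by
      haveI : Nontrivial (F.R p) := ⟨⟨⟨a₀, ha₀⟩, 1, fun e => ha₀1 (congrArg Subtype.val e)⟩⟩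
      exact top_ne_bot)
    have hwZ : (w : G) ∈ Z := ⟨w.2, mem_centralizer_iff.2 fun y hy =>
      congrArg Subtype.val (mem_center_iff.1 hwc ⟨y, hy⟩)⟩
    haveI : (Z.subgroupOf K).Normal := normal_subgroupOf_of_le_normalizer hKZ
    obtain ⟨z, hzZ, hzc, hzo⟩ := Cfsg.Lib.PGroups.exists_mem_center_of_normal_ne_bot hKp (N := Z.subgroupOf K)
      (fun e => by
        have h : (⟨w, mem_sup_left w.2⟩ : K) ∈ Z.subgroupOf K := mem_subgroupOf.2 hwZ
        rw [e, mem_bot] at h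
        have h1 : (w : G) = 1 := congrArg Subtype.val h
        rw [show w = 1 from Subtype.ext h1, orderOf_one] at hwo
        exact (Fact.out : p.Prime).one_lt.ne hwo)
    have hzZ' : (z : G) ∈ Z := mem_subgroupOf.1 hzZ
    refine ⟨a₀, ha₀, haW, ha₀1, z, hzZ'.1, hZinv _ hzZ', fun e => ?_, ?_, ?_⟩
    · rw [show z = 1 from Subtype.ext e, orderOf_one] at hzo
      exact (Fact.out : p.Prime).one_lt.ne hzo
    · exact mem_centralizer_iff.1 hzZ'.2 a₀ ha₀
    · exact congrArg Subtype.val (mem_center_iff.1 hzc ⟨_, mem_sup_right (mem_zpowers _)⟩)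

/-- A prime with `r s` centralising the Sylow subgroup: no fixed and inverted pair. -/
theorem nonfull_false (D : GWD.Frame G) (hm : Minimal G) (hinv : InvertsSpec D.four₁) {p : ℕ} [Fact p.Prime]
    (hp2 : p ≠ 2) (h3 : p ≠ 3 ∨ 4 ≤ D.n)
    (hcent : ∀ X : Subgroup G, IsPGroup p X → D.four₁.U ≤ normalizer (X : Set G) →
      ∃ s ∈ D.four₁.U, s ≠ 1 ∧ X ≤ centralizer {s})
    (hfix : ∀ y ∈ D.four₁.R p, y * (D.r * D.s) = D.r * D.s * y) {x a₀ : G} (hx : x ∈ D.four₁.R p)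
    (hxu : D.r * x * D.r⁻¹ ≠ x) (ha₀ : a₀ ∈ D.four₁.R p) (ha₀u : D.r * a₀ * D.r⁻¹ = a₀) (ha₀1 : a₀ ≠ 1) :
    False := by
  set F := D.four₁
  have hRp : IsPGroup p (F.R p) := (Cfsg.Lib.Components.isPGroup_pCore p).map _
  obtain ⟨a, ha, haW, ha1, z, hz, hzu, hz1, haz, ha'z⟩ := exists_pair F hm hp2 hx hxu ha₀ ha₀u ha₀1
  set H := centralizer ({a} : Set G)
  have hH := centralizer_ne_top hm ha1
  have hat : D.t * a = a * D.t := (D.mem_C.1 (D.O_le (F.R_le p ha))).symm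
  have har : D.r * a = a * D.r := (F.mem_W.1 haW).2.symm
  have hUH : F.U ≤ H := F.U_le_iff.2 ⟨mem_centralizer_singleton_iff.2 hat, mem_centralizer_singleton_iff.2 har⟩
  have hrsH : D.r * D.s ∈ H := mem_centralizer_singleton_iff.2 (hfix a ha).symm
  have hSH : D.S ≤ H := by
    rw [Frame.S, closure_le]
    rintro _ (rfl | rfl)
    · rw [s_eq D]; exact mul_mem (hUH F.u_mem_U) hrsH
    · exact hUH F.u_mem_U
  have hzH : z ∈ H := mem_centralizer_singleton_iff.2 haz.symm.eq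
  have hzo : Odd (orderOf z) := Cfsg.Lib.GW.Frame.odd_orderOf F.odd_card_O (F.R_le p hz)
  obtain ⟨k, hk⟩ := hRp ⟨z, hz⟩
  have hk' : z ^ p ^ k = 1 := congrArg Subtype.val hk
  -- `z` lies in the core
  have hzcore : z ∈ Core H := by
    have hv : D.r * D.s ∈ H ⊓ F.C := ⟨hrsH, D.S_le_C (rs_mem_S D)⟩
    rcases hinv H hH hUH _ hv D.rs_order (Ne.symm D.t_ne_rs) z ⟨hzH, F.R_le p hz⟩ hzu with h | ⟨h, h16⟩
    · rw [← hfix z hz, mul_inv_cancel_right] at h
      exact Cfsg.Lib.GenDihedral.mem_of_sq hzo h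
    · rcases h3 with hp3 | hn
      · obtain ⟨j, hj⟩ := exists_pow_eq_self_of_coprime (x := z) (n := 3)
          (((Nat.coprime_primes Nat.prime_three Fact.out).2 (Ne.symm hp3)).pow_right k |>.coprime_dvd_right
            (orderOf_dvd_of_pow_eq_one hk'))
        rw [← hj]
        exact pow_mem h j
      · refine absurd (dvd_trans ?_ (card_dvd_of_le hSH)) h16
        rw [D.card_S]
        exact pow_dvd_pow 2 hn
  -- the image of `z` under the inverse rotation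
  set z' := F.σ⁻¹ * z * F.σ with hz'
  have htz : F.t * z * F.t⁻¹ = z := mul_inv_eq_iff_eq_mul.2 (F.mem_C.1 (F.O_le (F.R_le p hz))).symm
  refine moved_core F hp2 hcent hUH (X := zpowers z) (z := z') (hRp.to_le (zpowers_le.2 hz))
    (zpowers_le.2 hzcore) ?_ ?_ ⟨z, mem_zpowers z, ?_⟩ ?_ ?_ ?_ ?_ ?_
  · rw [F.U_le_iff]
    constructor <;> rw [mem_normalizer_iff_map_conj_eq, MonoidHom.map_zpowers]
    · show zpowers (F.t * z * F.t⁻¹) = _; rw [htz]
    · show zpowers (F.u * z * F.u⁻¹) = _; rw [hzu, zpowers_inv]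
  · exact zpowers_le.2 (mem_centralizer_singleton_iff.2 (F.mem_C.1 (F.O_le (F.R_le p hz))))
  · exact fun e => hz1 (Cfsg.Lib.GW.Frame.eq_one_of_fixed_inverted hzo e hzu)
  · refine mem_centralizer_singleton_iff.2 ?_
    calc z' * a = F.σ⁻¹ * (z * (F.σ * a * F.σ⁻¹)) * F.σ := by rw [hz']; group
      _ = F.σ⁻¹ * (F.σ * a * F.σ⁻¹ * z) * F.σ := by rw [ha'z.eq]
      _ = a * z' := by rw [hz']; group
  · have e : zpowers z' = (zpowers z).map (MulAut.conj F.σ⁻¹).toMonoidHom := by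
      rw [MonoidHom.map_zpowers]; simp [hz']
    rw [e]
    exact (hRp.to_le (zpowers_le.2 hz)).map _
  · exact fun e => hz1 (by
      calc z = F.σ * z' * F.σ⁻¹ := by rw [hz']; group
        _ = 1 := by rw [e]; group)
  · calc F.t * z' * F.t⁻¹ = F.σ⁻¹ * ((F.σ * F.t * F.σ⁻¹) * z * (F.σ * F.t * F.σ⁻¹)⁻¹) * F.σ := by rw [hz']; group
      _ = z'⁻¹ := by rw [F.σ_t, hzu, hz']; group
  · calc F.t * F.u * z' = F.σ⁻¹ * ((F.σ * (F.t * F.u) * F.σ⁻¹) * z) * F.σ := by rw [hz']; group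
      _ = F.σ⁻¹ * (z * (F.σ * (F.t * F.u) * F.σ⁻¹)) * F.σ := by
          rw [F.σ_v, F.mem_C.1 (F.O_le (F.R_le p hz))]
      _ = z' * (F.t * F.u) := by rw [hz']; group

end Cfsg.Lib.GWD.Mixed
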