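import Cfsg.Agent.GWDihedral.Mixed.Basics
import Cfsg.Agent.FourGroupGW.Mixed.Invol

/-!
GW dihedral, COUNT: the class of a fixed element `a` against the torus of its centraliser.
-/

set_option autoImplicit false
set_option linter.unusedSectionVars false
set_option linter.style.haveILetI false

namespace Cfsg.Lib.GWD.Mixed

open Subgroup
open Cfsg.Lib.GW (Core le_normalizer_core core_le)
open Cfsg.Lib.GW.Mixed (orb card_orb spread)
open Cfsg.Lib.GW.Mixed.Invol (inverted_zpow mem_zpowers_of_cyclic)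

universe u

variable {G : Type u} [Group G] [Finite G] (D : GWD.Frame G)

/-- What the count uses at a prime: the facts, a fixed `a`, an inverted `z` of order `p` commuting with it and a
torus element `g` over `z` of order other than three. -/
structure Cfg (p : ℕ) (a z g : G) : Prop where
  hm : Minimal G
  top : TopSpec D.four₁
  inverts : InvertsSpec D.four₁
  bounds : D.Bounds
  hw : D.w₁ ≤ D.w₂
  hp : p.Prime
  fus₁ : ∀ A : Subgroup G, A ≤ D.four₁.W → IsPGroup p A → A ≠ ⊥ → Rot D.four₁ (centralizer (A : Set G))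
  fus₂ : ∀ A : Subgroup G, A ≤ D.four₂.W → IsPGroup p A → A ≠ ⊥ → Rot D.four₂ (centralizer (A : Set G))
  core : CoreFixed D.four₁ p
  a_W : a ∈ D.four₁.W
  a_p : IsPGroup p (zpowers a)
  a_ne : a ≠ 1
  z_pow : z ^ p = 1
  z_ne : z ≠ 1
  g_O : g ∈ D.O
  g_p : IsPGroup p (zpowers g)
  g_inv : D.r * g * D.r⁻¹ = g⁻¹
  g_comm : a * g = g * a
  g_z : z ∈ zpowers g
  g_cube : g ^ 3 ≠ 1

namespace Cfg

variable {D} {p : ℕ} {a z g : G} (c : Cfg D p a z g)
include c

theorem z_O : z ∈ D.O := zpowers_le.2 c.g_O c.g_z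

theorem z_inv : D.r * z * D.r⁻¹ = z⁻¹ := by
  obtain ⟨k, hk⟩ := mem_zpowers_iff.1 c.g_z
  rw [← hk]
  exact inverted_zpow c.g_inv k

theorem comm : a * z = z * a := by
  obtain ⟨k, hk⟩ := mem_zpowers_iff.1 c.g_z
  rw [← hk]
  exact ((show Commute a g from c.g_comm).zpow_right k).eq

theorem ne_top : centralizer ({a} : Set G) ≠ ⊤ := centralizer_ne_top c.hm c.a_ne

theorem rot : Rot D.four₁ (centralizer ({a} : Set G)) := by
  have h := c.fus₁ (zpowers a) (zpowers_le.2 c.a_W) c.a_p (by rw [Ne, zpowers_eq_bot]; exact c.a_ne)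
  rwa [zpowers_eq_closure, centralizer_closure] at h

theorem g_mem : g ∈ centralizer ({a} : Set G) := mem_centralizer_singleton_iff.2 c.g_comm.symm

theorem z_mem : z ∈ centralizer ({a} : Set G) := mem_centralizer_singleton_iff.2 c.comm.symm

theorem z_not_core : z ∉ Core (centralizer ({a} : Set G)) := by
  intro h
  have hn : D.four₁.U ≤ normalizer ((zpowers z : Subgroup G) : Set G) := by
    rw [D.four₁.U_le_iff]
    constructor
    · exact centralizer_le_normalizer _ (mem_centralizer_iff.2 fun x hx => by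
        obtain ⟨k, rfl⟩ := mem_zpowers_iff.1 hx
        exact (Commute.zpow_left (show Commute z D.t from D.mem_C.1 (D.O_le c.z_O)) k).eq)
    · rw [mem_normalizer_iff_map_conj_eq, MonoidHom.map_zpowers]
      show zpowers (D.r * z * D.r⁻¹) = _
      rw [c.z_inv, zpowers_inv]
  have h1 := c.core _ c.ne_top c.rot (zpowers z) (c.g_p.to_le (zpowers_le.2 c.g_z))
    (zpowers_le.2 h) hn (mem_zpowers z)
  exact c.z_ne (GW.Frame.eq_one_of_fixed_inverted (GW.Frame.odd_orderOf D.odd_card_O c.z_O)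
    (mul_inv_eq_iff_eq_mul.2 (mem_centralizer_iff.1 h1 D.r D.four₁.u_mem_U)) c.z_inv)

theorem core_inf : Core (centralizer ({a} : Set G)) ⊓ zpowers g = ⊥ := by
  haveI : Fact p.Prime := ⟨c.hp⟩
  rw [eq_bot_iff]
  rintro x ⟨hxc, hxr⟩
  by_contra hx
  obtain ⟨n, hn⟩ := c.g_p ⟨x, hxr⟩
  have hn' : x ^ p ^ n = 1 := congrArg Subtype.val hn
  obtain ⟨m, -, hm'⟩ := (Nat.dvd_prime_pow c.hp).1 (orderOf_dvd_of_pow_eq_one hn')
  rcases m with _ | m
  · exact hx (mem_bot.2 (orderOf_eq_one_iff.1 (by simpa using hm')))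
  have hyp : (x ^ p ^ m) ^ p = 1 := by rw [← pow_mul, ← pow_succ, ← hm', pow_orderOf_eq_one]
  have hy1 : x ^ p ^ m ≠ 1 := fun h => by
    have h2 := orderOf_dvd_of_pow_eq_one h
    rw [hm'] at h2
    exact absurd ((Nat.pow_dvd_pow_iff_le_right c.hp.one_lt).1 h2) (by omega)
  obtain ⟨k, hk⟩ := mem_zpowers_iff.1 (mem_zpowers_of_cyclic c.hp c.g_z
    ((zpowers g).pow_mem hxr _) c.z_pow hyp hy1)
  exact c.z_not_core (hk ▸ (Core _).zpow_mem ((Core _).pow_mem hxc _) k)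

theorem orderOf_dvd {α T Q : ℕ} (hT : DTop D.four₁ (centralizer ({a} : Set G)) α T Q) : orderOf g ∣ T := by
  have h1 := (hT.torus (zpowers g) (zpowers_le.2 ⟨c.g_mem, c.g_O⟩) (fun k hk => by
    obtain ⟨n, rfl⟩ := mem_zpowers_iff.1 hk
    show D.r * g ^ n * D.r⁻¹ * g ^ n ∈ _
    rw [inverted_zpow c.g_inv n, inv_mul_cancel]
    exact one_mem _)).1
  rwa [← inf_relIndex_right, c.core_inf, relIndex_bot_left, Nat.card_zpowers] at h1

theorem not_A7 {α T Q : ℕ} (hT : DTop D.four₁ (centralizer ({a} : Set G)) α T Q) : T ≠ 3 := fun h =>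
  c.g_cube (orderOf_dvd_iff_pow_eq_one.1 (h ▸ c.orderOf_dvd hT))

/-- An involution of `C(a) ∩ C(t)` centralising `z` is `t`. -/
theorem involution_eq_t {y : G} (hy : y ∈ centralizer ({a} : Set G) ⊓ D.C) (hy2 : orderOf y = 2)
    (hyz : y * z = z * y) : y = D.t := by
  by_contra hne
  set H := centralizer ({a} : Set G)
  rcases c.inverts H c.ne_top c.rot.1 y hy hy2 hne g ⟨c.g_mem, c.g_O⟩ c.g_inv with h | ⟨h, -⟩
  swap
  · exact c.g_cube (mem_bot.1 (c.core_inf ▸ mem_inf.2 ⟨h, (zpowers g).pow_mem (mem_zpowers g) 3⟩))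
  haveI : ((Core H).subgroupOf H).Normal := normal_subgroupOf_of_le_normalizer (le_normalizer_core H)
  set π := QuotientGroup.mk' ((Core H).subgroupOf H)
  have hker : ∀ x : H, π x = 1 ↔ (x : G) ∈ Core H := fun x =>
    (QuotientGroup.eq_one_iff x).trans mem_subgroupOf
  set Y : H := ⟨y, hy.1⟩
  set γ : H := ⟨g, c.g_mem⟩
  have h1 : π Y * π γ * (π Y)⁻¹ = (π γ)⁻¹ := by
    refine eq_inv_of_mul_eq_one_left ?_
    rw [← map_inv, ← map_mul, ← map_mul, ← map_mul, hker]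
    exact h
  obtain ⟨k, hk⟩ := mem_zpowers_iff.1 c.g_z
  have h2 : π Y * π γ ^ k * (π Y)⁻¹ = (π γ ^ k)⁻¹ := by rw [← conj_zpow, h1, inv_zpow]
  have h3 : π Y * π γ ^ k * (π Y)⁻¹ = π γ ^ k := by
    rw [← map_zpow, ← map_inv, ← map_mul, ← map_mul]
    refine congrArg π (Subtype.ext ?_)
    show y * (g ^ k) * y⁻¹ = g ^ k
    rw [hk, hyz, mul_inv_cancel_right]
  rw [h3] at h2
  have h4 : (z * z : G) ∈ Core H := by
    have e : π (γ ^ k * γ ^ k) = 1 := by rw [map_mul, map_zpow]; exact eq_inv_iff_mul_eq_one.1 h2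
    have := (hker _).1 e
    rwa [show ((γ ^ k * γ ^ k : H) : G) = z * z by
      rw [Subgroup.coe_mul, Subgroup.coe_zpow]; show g ^ k * g ^ k = _; rw [hk]] at this
  exact c.z_not_core (Cfsg.Lib.GenDihedral.mem_of_sq (GW.Frame.odd_orderOf D.odd_card_O c.z_O) h4)

/-- the elements of `⟨a⟩ z ^ j` are conjugate in the centraliser only inside `N` -/
theorem key {α T Q : ℕ} (hT : DTop D.four₁ (centralizer ({a} : Set G)) α T Q) {i i' j j' : ℤ}
    (hj : z ^ j ≠ 1) {h : G} (hh : h ∈ centralizer ({a} : Set G))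
    (he : h * (a ^ i * z ^ j) * h⁻¹ = a ^ i' * z ^ j') :
    h ∈ Core (centralizer ({a} : Set G)) ⊔ (centralizer ({a} : Set G) ⊓ D.four₁.C) := by
  classical
  set H := centralizer ({a} : Set G)
  set N := Core H ⊔ (H ⊓ D.four₁.C)
  set t := D.t
  have htt : t * t = 1 := D.four₁.t_sq
  have hti : t⁻¹ = t := D.four₁.t_inv
  have hha : Commute h a := mem_centralizer_singleton_iff.1 hh
  obtain ⟨k, hk⟩ : ∃ k : ℤ, (z ^ j) ^ k = z := mem_zpowers_iff.1 (mem_zpowers_of_cyclic c.hp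
    (mem_zpowers z) (zpow_mem (mem_zpowers z) j) c.z_pow
    (by rw [← zpow_natCast, zpow_comm, zpow_natCast, c.z_pow, one_zpow]) hj)
  have hzj : h * z ^ j * h⁻¹ = a ^ (i' - i) * z ^ j' := by
    calc h * z ^ j * h⁻¹ = (a ^ i)⁻¹ * ((a ^ i * h) * z ^ j * h⁻¹) := by group
      _ = (a ^ i)⁻¹ * (h * (a ^ i * z ^ j) * h⁻¹) := by rw [← (hha.zpow_right i).eq]; group
      _ = _ := by rw [he]; group
  have hz' : h * z * h⁻¹ = (a ^ (i' - i) * z ^ j') ^ k := by
    rw [← hzj, conj_zpow, hk]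
  set X := H ⊓ centralizer ({z} : Set G) with hX
  have hXN : X ≤ N := (hT.centralizer_le.resolve_left fun h' => c.not_A7 hT h'.1) z ⟨c.z_mem, c.z_O⟩ c.z_not_core
    (by show D.r * z * D.r⁻¹ * z ∈ _; rw [c.z_inv, inv_mul_cancel]; exact one_mem _)
  have hstab : ∀ g' ∈ X, h⁻¹ * g' * h ∈ X := by
    rintro g' ⟨hg1, hg2⟩
    refine ⟨H.mul_mem (H.mul_mem (H.inv_mem hh) hg1) hh, mem_centralizer_singleton_iff.2 ?_⟩
    have hga : Commute g' a := mem_centralizer_singleton_iff.1 hg1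
    have hgz : Commute g' z := mem_centralizer_singleton_iff.1 hg2
    have h1 : Commute g' (h * z * h⁻¹) := hz' ▸ (((hga.zpow_right _).mul_right (hgz.zpow_right _)).zpow_right k)
    calc h⁻¹ * g' * h * z = h⁻¹ * (g' * (h * z * h⁻¹)) * h := by group
      _ = h⁻¹ * ((h * z * h⁻¹) * g') * h := by rw [h1.eq]
      _ = z * (h⁻¹ * g' * h) := by group
  have htX : t ∈ X := ⟨mem_centralizer_singleton_iff.2
      (D.mem_C.1 (D.O_le (D.four₁.W_le c.a_W))).symm,
    mem_centralizer_singleton_iff.2 (D.mem_C.1 (D.O_le c.z_O)).symm⟩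
  set y := h⁻¹ * t * h with hy
  have hyX : y ∈ X := hstab _ htX
  have hy2 : orderOf y = 2 := by
    rw [hy, show h⁻¹ * t * h = MulAut.conj h⁻¹ t by simp, MulEquiv.orderOf_eq]
    exact D.t_order
  have hyy : y * y = 1 := Cfsg.Lib.GenDihedral.mul_self_of_two hy2
  have hinvol : ∀ x ∈ X, x * t = t * x → x * x = 1 → x ≠ 1 → x = t := fun x hx hxt hxx hx1 =>
    c.involution_eq_t ⟨hx.1, D.mem_C.2 hxt⟩ ((Cfsg.Lib.GenDihedral.two_or_one hxx).resolve_left hx1)
      (mem_centralizer_singleton_iff.1 hx.2)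
  -- `y` is conjugate to `t` inside `X`
  obtain ⟨d, hdX, hd⟩ : ∃ d ∈ X, d * t * d⁻¹ = y := by
    have hyi : y⁻¹ = y := inv_eq_of_mul_eq_one_right hyy
    set w := y * t
    have hwX : w ∈ X := X.mul_mem hyX htX
    have hwi : ∀ m : ℕ, t * (w ^ m)⁻¹ = w ^ m * t := by
      intro m
      have h1 : t * w⁻¹ * t⁻¹ = w := by
        rw [mul_inv_rev, hyi, hti, ← mul_assoc, ← mul_assoc, htt, one_mul]
      have h2 : t * (w ^ m)⁻¹ * t⁻¹ = w ^ m := by rw [← inv_pow, ← conj_pow, h1]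
      calc t * (w ^ m)⁻¹ = t * (w ^ m)⁻¹ * t⁻¹ * t := by group
        _ = _ := by rw [h2]
    rcases Nat.even_or_odd (orderOf w) with ⟨m, hm'⟩ | ⟨m, hm'⟩
    · have hw1 : w ^ m * w ^ m = 1 := by rw [← pow_add, ← hm', pow_orderOf_eq_one]
      have hm0 : 0 < m := by have := orderOf_pos w; omega
      have hwne : w ^ m ≠ 1 := fun e => by
        have := Nat.le_of_dvd hm0 (orderOf_dvd_of_pow_eq_one e)
        omega
      have hwt : w ^ m * t = t * w ^ m := by
        rw [← hwi m, inv_eq_of_mul_eq_one_right hw1]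
      have hwt' : w ^ m = t := hinvol _ (X.pow_mem hwX m) hwt hw1 hwne
      have h3 : Commute w t := hwt' ▸ Commute.self_pow w m
      have hyt : y * t = t * y := by
        have h4 := h3.mul_left (Commute.refl t).inv_left
        rw [mul_inv_cancel_right] at h4
        exact h4.eq
      have hyt' : y = t := hinvol _ hyX hyt hyy fun e => by rw [e, orderOf_one] at hy2; omega
      exact ⟨1, one_mem _, by rw [hyt']; group⟩
    · refine ⟨w ^ (m + 1), X.pow_mem hwX _, ?_⟩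
      calc w ^ (m + 1) * t * (w ^ (m + 1))⁻¹ = w ^ (m + 1) * (t * (w ^ (m + 1))⁻¹) := by group
        _ = w ^ (m + 1) * w ^ (m + 1) * t := by rw [hwi, mul_assoc]
        _ = y := by
          rw [← pow_add, show m + 1 + (m + 1) = orderOf w + 1 by omega, pow_succ, pow_orderOf_eq_one, one_mul,
            mul_assoc, htt, mul_one]
  have hhd : h * d ∈ H ⊓ D.four₁.C := by
    refine ⟨H.mul_mem hh hdX.1, D.four₁.mem_C.2 ?_⟩
    show h * d * t = t * (h * d)
    calc h * d * t = h * (d * t * d⁻¹) * d := by group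
      _ = t * (h * d) := by rw [hd, hy]; group
  have h5 := N.mul_mem (mem_sup_right hhd) (N.inv_mem (hXN hdX))
  rwa [mul_inv_cancel_right] at h5

/-- the count: the parameters and the two sides -/
theorem count : ∃ M Q : ℕ, 4 * orderOf g ≤ M ∧ (M - 1) * (M - 2) ≤ 2 * Q ∧
    (∀ X : Set G, X ⊆ orb (⊤ : Subgroup G) a → (∀ x ∈ X, ∃ i j : ℤ, x = a ^ i * z ^ j ∧ z ^ j ≠ 1) →
      X.ncard * Q ≤ (orb (⊤ : Subgroup G) a).ncard) ∧
    64 * (orb (⊤ : Subgroup G) a).ncard * (orb D.four₁.W a).ncard ^ 2 * Q ≤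
      45 * M ^ 2 * (orb D.four₁.C a).ncard ^ 3 := by
  obtain ⟨α, T, Q, hT⟩ := c.top _ c.ne_top c.rot
  refine ⟨2 ^ α * T, Q, ?_, ?_, fun X hX hXf => ?_, ?_⟩
  · refine Nat.mul_le_mul ?_ (Nat.le_of_dvd hT.T_odd.pos (c.orderOf_dvd hT))
    simpa using Nat.pow_le_pow_right two_pos hT.a_two
  · exact (hT.Q_full (no_index_two D c.hm c.fus₁ c.fus₂ c.a_W c.a_p c.a_ne rfl)).resolve_right
      fun h => c.not_A7 hT h.1
  · rw [← hT.index]
    refine spread (fun x hx h hh hxh => ?_) hX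
    obtain ⟨i, j, rfl, hj⟩ := hXf x hx
    obtain ⟨i', j', he, -⟩ := hXf _ hxh
    exact c.key hT hj hh he
  · have hC : Nat.card D.four₁.C = 2 ^ D.n * Nat.card D.four₁.O := by
      rw [show D.four₁.C = D.C from rfl, D.card_C, Frame.m]
      obtain ⟨k, hk⟩ : ∃ k, D.n = k + 2 := ⟨D.n - 2, by have := D.three_le; omega⟩
      rw [hk, Nat.add_sub_cancel, pow_add]
      show _ = 2 ^ k * 2 ^ 2 * Nat.card D.O
      ring
    exact order_bound D c.bounds c.hw D.card_C hT
      (card_inf_C hC ((two_part_inf (no_eight c.hm) c.rot).trans hT.two_part))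

end Cfg

end Cfsg.Lib.GWD.Mixed
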