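import Cfsg.Agent.GWDihedral.Mixed.Plane

/-!
GW dihedral, mixed half: kind (i) at a prime moved by both reflections.
-/

set_option autoImplicit false
set_option linter.unusedSectionVars false
set_option linter.style.haveILetI false

namespace Cfsg.Lib.GWD.Mixed

open Subgroup
open Cfsg.Lib.GW.Mixed (orb card_orb Five fixed_mod fixed_mul_inverted_inj C_le_normalizer_R)
open Cfsg.Lib.GW.Mixed.Invol (inverted_zpow inverted_pow inverted_div mem_zpowers_of_cyclic decomp inverts)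

universe u

variable {G : Type u} [Group G] [Finite G] {D : GWD.Frame G} {p : ℕ} {S : Subgroup G}

namespace Env

variable (E : Env D p S)
include E

/-- An elementary abelian normal subgroup of `C` inside `O_p(O)` has no fixed point when inverted elements of
`O_p(O)` do not commute. -/
theorem no_fixed {b₁ b₂ : G} (hb₁ : b₁ ∈ D.four₁.R p) (hb₂ : b₂ ∈ D.four₁.R p)
    (hb₁u : D.r * b₁ * D.r⁻¹ = b₁⁻¹) (hb₂u : D.r * b₂ * D.r⁻¹ = b₂⁻¹) (hne : b₁ * b₂ ≠ b₂ * b₁)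
    (P : Subgroup G) (hPR : P ≤ D.four₁.R p) (hPab : ∀ a ∈ P, ∀ b ∈ P, a * b = b * a)
    (hPp : ∀ a ∈ P, a ^ p = 1) (hPN : normalizer (D.four₁.R p : Set G) ≤ normalizer (P : Set G)) :
    ∀ a ∈ P, D.r * a = a * D.r → a = 1 := by
  classical
  intro a₀ ha₀ ha₀u
  by_contra ha₀1
  set F := D.four₁
  have d := E.five
  have hp := d.hp
  haveI : Fact p.Prime := ⟨hp⟩
  have hPS : P ≤ S := hPR.trans d.hRS
  have hPO' : P ≤ F.O := hPS.trans d.hSO
  have hRO : F.R p ≤ F.O := d.hRS.trans d.hSO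
  have hodd : ∀ {x : G}, x ∈ F.O → Odd (orderOf x) := fun h => GW.Frame.odd_orderOf F.odd_card_O h
  have hCP : D.C ≤ normalizer (P : Set G) := (C_le_normalizer_R (F := F) p).trans hPN
  have hPu : D.r ∈ normalizer (P : Set G) := hPN d.huR
  have hPO : F.O ≤ normalizer (P : Set G) := d.hOR.trans hPN
  have hA : ∀ a ∈ P, D.r * a = a * D.r → a ≠ 1 → a * b₁ = b₁ * a → a * b₂ = b₂ * a → False :=
    fun a ha hau ha1 h1 h2 => hne (d.comm_of_fixed (hPS ha) hau ha1 (d.hRS hb₁) h1 hb₁u (d.hRS hb₂) h2 hb₂u)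
  -- the part of `P` central in `R`
  set Z := P ⊓ centralizer (F.R p : Set G)
  haveI : (P.subgroupOf (F.R p)).Normal := normal_subgroupOf_of_le_normalizer (hRO.trans hPO)
  obtain ⟨w, hwP, hwc, hwo⟩ := Cfsg.Lib.PGroups.exists_mem_center_of_normal_ne_bot (d.hS.to_le d.hRS)
    (N := P.subgroupOf (F.R p)) (fun h => ha₀1 (by
      have h1 : (⟨a₀, hPR ha₀⟩ : F.R p) ∈ P.subgroupOf (F.R p) := mem_subgroupOf.2 ha₀
      rw [h, mem_bot, Subtype.ext_iff] at h1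
      exact h1))
  set z := (w : G) with hz
  have hzZ : z ∈ Z := ⟨hwP, mem_centralizer_iff.2 fun x hx => congrArg Subtype.val (mem_center_iff.1 hwc ⟨x, hx⟩)⟩
  have hzp : z ^ p = 1 := hPp z hwP
  have hz1 : z ≠ 1 := fun h => by
    rw [show w = 1 from Subtype.ext h, orderOf_one] at hwo
    exact hp.one_lt.ne hwo
  have hZn : ∀ g : G, g ∈ normalizer (P : Set G) → g ∈ normalizer (F.R p : Set G) → g ∈ normalizer (Z : Set G) :=
    fun g hg hg' => inf_normalizer_le_normalizer_inf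
      ⟨hg, Cfsg.Lib.Thompson.normalizer_le_normalizer_centralizer _ hg'⟩
  have hzc : ∀ x ∈ F.R p, x * z = z * x := fun x hx => mem_centralizer_iff.1 hzZ.2 x hx
  have hZinv : ∀ x ∈ Z, D.r * x * D.r⁻¹ = x⁻¹ := inverts d.hu (hZn _ hPu d.huR) fun x hx hxu => by
    by_contra hx1
    exact hA x hx.1 hxu hx1 (mem_centralizer_iff.1 hx.2 b₁ hb₁).symm (mem_centralizer_iff.1 hx.2 b₂ hb₂).symm
  have hzu : D.r * z * D.r⁻¹ = z⁻¹ := hZinv z hzZ
  have hinv : ∀ x ∈ P, D.r * x * D.r⁻¹ = x⁻¹ → x ∈ zpowers z := fun x hx hxu =>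
    d.mem_zpowers (hPS ha₀) ha₀u ha₀1 (hPS hwP) (hPab _ ha₀ _ hwP) hzu hzp hz1 (hPS hx) (hPab _ ha₀ _ hx) hxu
      (hPp x hx)
  have hdiff : ∀ v ∈ P, v⁻¹ * (D.r * v * D.r⁻¹) ∈ zpowers z := fun v hv =>
    hinv _ (P.mul_mem (P.inv_mem hv) ((mem_normalizer_iff.1 hPu v).1 hv)) (inverted_div d.hu v)
  have hzZ' : Z = zpowers z :=
    le_antisymm (fun x hx => hinv x hx.1 (hZinv x hx)) (zpowers_le.2 hzZ)
  have hzC : ∀ g ∈ D.C, ∀ x ∈ zpowers z, g * x * g⁻¹ ∈ zpowers z := fun g hg x hx => by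
    rw [← hzZ'] at hx ⊢
    exact (mem_normalizer_iff.1 (hZn g (hCP hg) (C_le_normalizer_R (F := F) p hg)) x).1 hx
  have hzn : F.O ≤ normalizer ((zpowers z : Subgroup G) : Set G) :=
    hzZ' ▸ fun g hg => hZn g (hPO hg) (d.hOR hg)
  -- commutators of inverted elements with fixed elements of `P`
  have hcom : ∀ x ∈ F.R p, D.r * x * D.r⁻¹ = x⁻¹ → ∀ a ∈ P, D.r * a = a * D.r →
      x * a * x⁻¹ * a⁻¹ ∈ zpowers z := fun x hx hxu a ha hau =>
    fixed_mod (F := F) hzn hPO hdiff (hRO hx) hxu ha (mul_inv_eq_iff_eq_mul.2 hau)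
  have hsame : ∀ x ∈ F.R p, ∀ a ∈ P, ∀ b ∈ P, x * a * x⁻¹ * a⁻¹ = x * b * x⁻¹ * b⁻¹ →
      (a⁻¹ * b) * x = x * (a⁻¹ * b) := by
    intro x hx a ha b hb h
    have h1 : x * b * x⁻¹ = x * a * x⁻¹ * a⁻¹ * b := by rw [h, inv_mul_cancel_right]
    have h2 : x * (a⁻¹ * b) * x⁻¹ = a⁻¹ * b := by
      calc x * (a⁻¹ * b) * x⁻¹ = (x * a * x⁻¹)⁻¹ * (x * b * x⁻¹) := by group
        _ = a⁻¹ * b := by rw [h1]; group
    exact (mul_inv_eq_iff_eq_mul.1 h2).symm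
  set Pf : Subgroup G := P ⊓ centralizer ({D.r} : Set G) with hPf
  have hPfu : ∀ x ∈ Pf, D.r * x = x * D.r := fun x hx => (mem_centralizer_singleton_iff.1 hx.2).symm
  have hmemPf : ∀ x ∈ P, D.r * x = x * D.r → x ∈ Pf := fun x hx h =>
    ⟨hx, mem_centralizer_singleton_iff.2 h.symm⟩
  have hzcard : Nat.card (zpowers z) = p := by rw [Nat.card_zpowers, orderOf_eq_prime hzp hz1]
  have hPfcard : Nat.card Pf ≤ p ^ 2 := by
    have h := Nat.card_le_card_of_injective (fun x : Pf => ((⟨b₁ * x * b₁⁻¹ * (x : G)⁻¹,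
      hcom b₁ hb₁ hb₁u x x.2.1 (hPfu x x.2)⟩ : zpowers z), (⟨b₂ * x * b₂⁻¹ * (x : G)⁻¹,
      hcom b₂ hb₂ hb₂u x x.2.1 (hPfu x x.2)⟩ : zpowers z))) (fun x y h => Subtype.ext (by
        by_contra hxy
        exact hA _ (P.mul_mem (P.inv_mem x.2.1) y.2.1) (hPfu _ (Pf.mul_mem (Pf.inv_mem x.2) y.2))
          (fun e => hxy (inv_mul_eq_one.1 e))
          (hsame b₁ hb₁ x x.2.1 y y.2.1 (congrArg (fun q => (q.1 : G)) h))
          (hsame b₂ hb₂ x x.2.1 y y.2.1 (congrArg (fun q => (q.2 : G)) h))))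
    rw [Nat.card_prod, hzcard, ← pow_two] at h
    exact h
  have hbz : b₁ ∉ zpowers z := fun h => hne (by
    obtain ⟨k, rfl⟩ := mem_zpowers_iff.1 h
    exact ((show Commute b₂ z from hzc b₂ hb₂).zpow_right k).eq.symm)
  have hzcc : ∀ x ∈ zpowers z, ∀ y ∈ F.R p, Commute y x := fun x hx y hy => by
    obtain ⟨k, rfl⟩ := mem_zpowers_iff.1 hx
    exact (show Commute y z from hzc y hy).zpow_right k
  -- a fixed `a` and an inverted `g` outside `⟨z⟩` centralising it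
  obtain ⟨a, haPf, ha1, g, hgR, hgu, hag, hgz⟩ : ∃ a ∈ Pf, a ≠ 1 ∧ ∃ g ∈ F.R p, D.r * g * D.r⁻¹ = g⁻¹ ∧
      a * g = g * a ∧ g ∉ zpowers z := by
    by_cases hker : ∀ x ∈ Pf, x * b₁ = b₁ * x → x = 1
    swap
    · push Not at hker
      obtain ⟨a, haPf, hab, ha1⟩ := hker
      exact ⟨a, haPf, ha1, b₁, hb₁, hb₁u, hab, hbz⟩
    have haPf := hmemPf a₀ ha₀ ha₀u
    set c₁ := b₁ * a₀ * b₁⁻¹ * a₀⁻¹ with hc₁
    have hc₁z : c₁ ∈ zpowers z := hcom b₁ hb₁ hb₁u a₀ ha₀ ha₀u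
    have hc₂z : b₂ * a₀ * b₂⁻¹ * a₀⁻¹ ∈ zpowers z := hcom b₂ hb₂ hb₂u a₀ ha₀ ha₀u
    have hc₁1 : c₁ ≠ 1 := fun h => ha₀1 (hker a₀ haPf (by
      rw [hc₁, mul_inv_eq_one, mul_inv_eq_iff_eq_mul] at h
      exact h.symm))
    have hzpow : ∀ x ∈ zpowers z, x ^ p = 1 := fun x hx => by
      obtain ⟨j, rfl⟩ := mem_zpowers_iff.1 hx
      rw [← zpow_natCast, zpow_comm, zpow_natCast, hzp, one_zpow]
    obtain ⟨k, hk⟩ : ∃ k : ℕ, c₁ ^ k = b₂ * a₀ * b₂⁻¹ * a₀⁻¹ := mem_powers_iff_mem_zpowers.2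
      (mem_zpowers_of_cyclic hp hc₂z hc₁z (hzpow _ hc₂z) (hzpow _ hc₁z) hc₁1)
    obtain ⟨m, hm⟩ := hp.odd_of_ne_two d.hp2
    have hpowa : ∀ i : ℕ, b₁ ^ i * a₀ * (b₁ ^ i)⁻¹ = c₁ ^ i * a₀ := by
      intro i
      induction i with
      | zero => simp
      | succ i ih =>
        calc b₁ ^ (i + 1) * a₀ * (b₁ ^ (i + 1))⁻¹ = b₁ * (b₁ ^ i * a₀ * (b₁ ^ i)⁻¹) * b₁⁻¹ := by
              rw [pow_succ']; group
          _ = (b₁ * c₁ ^ i * b₁⁻¹) * (b₁ * a₀ * b₁⁻¹) := by rw [ih]; group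
          _ = c₁ ^ i * (c₁ * a₀) := by
              rw [(hzcc _ (pow_mem hc₁z i) b₁ hb₁).eq, mul_inv_cancel_right, hc₁, inv_mul_cancel_right]
          _ = _ := by rw [← mul_assoc, ← pow_succ]
    set i := k * m with hi
    set g := b₁ ^ i * b₂ * b₁ ^ i with hg
    have hgu : D.r * g * D.r⁻¹ = g⁻¹ := by
      calc D.r * g * D.r⁻¹ = (D.r * b₁ ^ i * D.r⁻¹) * (D.r * b₂ * D.r⁻¹) * (D.r * b₁ ^ i * D.r⁻¹) := by
            rw [hg]; group
        _ = g⁻¹ := by rw [inverted_pow hb₁u, hb₂u, hg]; group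
    have hb₁i := (F.R p).pow_mem hb₁ i
    refine ⟨a₀, haPf, ha₀1, g, (F.R p).mul_mem ((F.R p).mul_mem hb₁i hb₂) hb₁i, hgu, ?_, fun h => hne ?_⟩
    · have hcen : ∀ j : ℕ, ∀ x ∈ F.R p, x * c₁ ^ j * x⁻¹ = c₁ ^ j := fun j x hx => by
        rw [(hzcc _ (pow_mem hc₁z j) x hx).eq, mul_inv_cancel_right]
      have h1 : g * a₀ * g⁻¹ = c₁ ^ (i + k + i) * a₀ := by
        calc g * a₀ * g⁻¹ = b₁ ^ i * (b₂ * (b₁ ^ i * a₀ * (b₁ ^ i)⁻¹) * b₂⁻¹) * (b₁ ^ i)⁻¹ := by rw [hg]; group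
          _ = b₁ ^ i * ((b₂ * c₁ ^ i * b₂⁻¹) * (b₂ * a₀ * b₂⁻¹)) * (b₁ ^ i)⁻¹ := by rw [hpowa]; group
          _ = b₁ ^ i * ((c₁ ^ i * c₁ ^ k) * a₀) * (b₁ ^ i)⁻¹ := by
              rw [hcen i b₂ hb₂, hk]; group
          _ = (b₁ ^ i * c₁ ^ (i + k) * (b₁ ^ i)⁻¹) * (b₁ ^ i * a₀ * (b₁ ^ i)⁻¹) := by rw [← pow_add]; group
          _ = _ := by rw [hcen _ _ hb₁i, hpowa, ← mul_assoc, ← pow_add]
      rw [show i + k + i = p * k by rw [hi, hm]; ring, pow_mul, hzpow c₁ hc₁z, one_pow, one_mul] at h1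
      exact (mul_inv_eq_iff_eq_mul.1 h1).symm
    · have hc : Commute b₁ g := hzcc g h b₁ hb₁
      have e : b₂ = (b₁ ^ i)⁻¹ * g * (b₁ ^ i)⁻¹ := by rw [hg]; group
      rw [e]
      exact (((Commute.self_pow b₁ i).inv_right.mul_right hc).mul_right (Commute.self_pow b₁ i).inv_right).eq
  have haP := haPf.1
  have hau := hPfu a haPf
  have hau' : D.r * a * D.r⁻¹ = a := mul_inv_eq_iff_eq_mul.2 hau
  have haW : a ∈ F.W := F.mem_W.2 ⟨hPO' haP, hau.symm⟩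
  -- its order is at least `p ^ 2`
  obtain ⟨n, hn⟩ := d.hS ⟨g, d.hRS hgR⟩
  have hn' : g ^ p ^ n = 1 := congrArg Subtype.val hn
  obtain ⟨k, -, hk⟩ := (Nat.dvd_prime_pow hp).1 (orderOf_dvd_of_pow_eq_one hn')
  have hmemz : ∀ x ∈ S, a * x = x * a → D.r * x * D.r⁻¹ = x⁻¹ → x ^ p = 1 → x ∈ zpowers z :=
    fun x hx hax hxu hxp => d.mem_zpowers (hPS haP) hau ha1 (hPS hwP) (hPab _ haP _ hwP) hzu hzp hz1 hx hax hxu hxp
  have hk2 : 2 ≤ k := by
    by_contra hlt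
    refine hgz (hmemz g (d.hRS hgR) hag hgu (orderOf_dvd_iff_pow_eq_one.1 ?_))
    rw [hk]
    exact (pow_dvd_pow p (show k ≤ 1 by omega)).trans (pow_one p).dvd
  have hzg : z ∈ zpowers g := by
    have hyp : (g ^ p ^ (k - 1)) ^ p = 1 := by
      rw [← pow_mul, ← pow_succ, show k - 1 + 1 = k by omega, ← hk, pow_orderOf_eq_one]
    have hy1 : g ^ p ^ (k - 1) ≠ 1 := fun h => by
      have h2 := orderOf_dvd_of_pow_eq_one h
      rw [hk] at h2
      exact absurd ((Nat.pow_dvd_pow_iff_le_right hp.one_lt).1 h2) (by omega)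
    have h3 := hmemz _ (S.pow_mem (d.hRS hgR) _) ((show Commute a g from hag).pow_right _).eq
      (inverted_pow hgu _) hyp
    obtain ⟨j, hj⟩ := mem_zpowers_iff.1 (mem_zpowers_of_cyclic hp (mem_zpowers z) h3 hzp hyp hy1)
    exact mem_zpowers_iff.2 ⟨(p ^ (k - 1) : ℕ) * j, by rw [zpow_mul, zpow_natCast, hj]⟩
  have hp3 : 3 ≤ p := by have := hp.two_le; have := d.hp2; omega
  have hord : p ^ 2 ≤ orderOf g := hk ▸ Nat.pow_le_pow_right hp.pos hk2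
  have hg3 : g ^ 3 ≠ 1 := fun h => by
    have h1 := Nat.le_of_dvd (by norm_num) (orderOf_dvd_of_pow_eq_one h)
    have := Nat.pow_le_pow_left hp3 2
    omega
  obtain ⟨M, Q, hM, hQ, hX, hN⟩ :=
    (E.cfg (hPS haP) hau ha1 hzp hz1 (d.hRS hgR) hgu hag hzg hg3).count
  -- fixed parts
  have hzfix : ∀ b b' : G, b ∈ Pf → b' ∈ Pf → b⁻¹ * b' ∈ zpowers z → b = b' := fun b b' hb hb' h => by
    have h1 : b⁻¹ * b' ∈ Pf := Pf.mul_mem (Pf.inv_mem hb) hb'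
    obtain ⟨j, hj⟩ := mem_zpowers_iff.1 h
    exact inv_mul_eq_one.1 (GW.Frame.eq_one_of_fixed_inverted (hodd (hPO' h1.1))
      (mul_inv_eq_iff_eq_mul.2 (hPfu _ h1)) (hj ▸ inverted_zpow hzu j))
  have hsplit : ∀ v : G, ∃ b : G, v ∈ P → b ∈ Pf ∧ b⁻¹ * v ∈ zpowers z := fun v => by
    by_cases hv : v ∈ P
    · obtain ⟨b, hb, i, hi, hbu, hiu, rfl⟩ :=
        decomp d.hu (F.odd_card_O.of_dvd_nat (card_dvd_of_le hPO')) hPu hv
      exact ⟨b, fun _ => ⟨hmemPf b hb hbu, by rw [inv_mul_cancel_left]; exact hinv i hi hiu⟩⟩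
    · exact ⟨1, fun h => absurd h hv⟩
  choose φ hφ using hsplit
  have hφu : ∀ v ∈ P, ∀ b ∈ Pf, b⁻¹ * v ∈ zpowers z → φ v = b := fun v hv b hb h => by
    refine hzfix _ _ (hφ v hv).1 hb ?_
    have := mul_mem (hφ v hv).2 (inv_mem h)
    rwa [show (φ v)⁻¹ * v * (b⁻¹ * v)⁻¹ = (φ v)⁻¹ * b by group] at this
  have hconjP : ∀ h ∈ D.C, ∀ v ∈ P, h * v * h⁻¹ ∈ P := fun h hh v hv =>
    (mem_normalizer_iff.1 (hCP hh) v).1 hv
  have hφc : ∀ h ∈ D.C, ∀ v ∈ P, φ (h * φ v * h⁻¹) = φ (h * v * h⁻¹) := fun h hh v hv => by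
    have h1 := hconjP h hh _ (hφ v hv).1.1
    refine (hφu _ (hconjP h hh v hv) _ (hφ _ h1).1 ?_).symm
    have := mul_mem (hφ _ h1).2 (hzC h hh _ (hφ v hv).2)
    rwa [show (φ (h * φ v * h⁻¹))⁻¹ * (h * φ v * h⁻¹) * (h * ((φ v)⁻¹ * v) * h⁻¹) =
      (φ (h * φ v * h⁻¹))⁻¹ * (h * v * h⁻¹) by group] at this
  have horbW : ∀ b ∈ orb F.W a, b ∈ Pf ∧ b ≠ 1 := by
    rintro _ ⟨w, hw, rfl⟩
    have hwu : Commute w D.r := (F.mem_W.1 hw).2
    refine ⟨hmemPf _ ((mem_normalizer_iff.1 (hPO (F.W_le hw)) a).1 haP)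
      ((hwu.mul_left hau.symm).mul_left hwu.inv_left).eq.symm, fun e => ha1 (conj_eq_one_iff.1 e)⟩
  have hφO : ∀ o ∈ F.O, ∀ b ∈ orb F.W a, φ (o * b * o⁻¹) ∈ orb F.W a := by
    rintro o ho _ ⟨v, hv, rfl⟩
    set e := o * v
    have heO : e ∈ F.O := mul_mem ho (F.W_le hv)
    obtain ⟨w, hw, i, hi, hwu, hiu, he⟩ := decomp F.u_sq F.odd_card_O (F.U_le_normalizer_O F.u_mem_U) heO
    have hwW : w ∈ F.W := F.mem_W.2 ⟨hw, hwu.symm⟩
    have h1 := fixed_mod (F := F) hzn hPO hdiff hi hiu haP hau'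
    rw [show o * (v * a * v⁻¹) * o⁻¹ = e * a * e⁻¹ by simp only [e]; group]
    rw [hφu _ ((mem_normalizer_iff.1 (hPO heO) a).1 haP) (w * a * w⁻¹) (horbW _ ⟨w, hwW, rfl⟩).1 ?_]
    · exact ⟨w, hwW, rfl⟩
    have h2 := hzC w (D.O_le hw) _ h1
    rw [hPab _ ((mem_normalizer_iff.1 (hPO hi) a).1 haP) _ (P.inv_mem haP)] at h2
    rw [he]
    convert h2 using 1
    group
  -- the orbit of `a` under `C` modulo `⟨z⟩`
  have hsC : D.s ∈ D.C := D.S_le_C D.s_mem_S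
  set ψ : G → G := fun b => φ (D.s * b * D.s⁻¹) with hψ
  have hψ2 : ψ (ψ a) = a := by
    have hr : φ (D.r * (D.s * a * D.s⁻¹) * D.r⁻¹) = ψ a := by
      have hv := hconjP D.s hsC a haP
      refine hφu _ (hconjP D.r (D.S_le_C D.r_mem_S) _ hv) _ (hφ _ hv).1 ?_
      have := mul_mem (hφ _ hv).2 (hdiff _ hv)
      rwa [mul_assoc, mul_inv_cancel_left] at this
    have e : D.r * (D.s * a * D.s⁻¹) * D.r⁻¹ = D.s⁻¹ * a * D.s := by
      calc D.r * (D.s * a * D.s⁻¹) * D.r⁻¹ = (D.r * D.s * D.r⁻¹) * (D.r * a * D.r⁻¹) * (D.r * D.s * D.r⁻¹)⁻¹ := by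
            group
        _ = _ := by rw [D.rel, hau', inv_inv]
    rw [e] at hr
    have hv := hconjP D.s⁻¹ (inv_mem hsC) a haP
    rw [inv_inv] at hv
    calc ψ (ψ a) = φ (D.s * φ (D.s⁻¹ * a * D.s) * D.s⁻¹) := by simp only [hψ] at hr ⊢; rw [hr]
      _ = φ (D.s * (D.s⁻¹ * a * D.s) * D.s⁻¹) := hφc _ hsC _ hv
      _ = a := by
        rw [show D.s * (D.s⁻¹ * a * D.s) * D.s⁻¹ = a by group]
        exact hφu a haP a haPf (by rw [inv_mul_cancel]; exact one_mem _)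
  set B := orb F.W a ∪ ψ '' orb F.W a with hB
  have haB : a ∈ orb F.W a := ⟨1, one_mem _, by group⟩
  have hsub : ∀ h ∈ D.C, φ (h * a * h⁻¹) ∈ B := by
    have hpw : ∀ i : ℕ, φ (D.s ^ i * a * (D.s ^ i)⁻¹) = a ∨ φ (D.s ^ i * a * (D.s ^ i)⁻¹) = ψ a := by
      intro i
      induction i with
      | zero => exact Or.inl (by
          rw [pow_zero, one_mul, inv_one, mul_one]
          exact hφu a haP a haPf (by rw [inv_mul_cancel]; exact one_mem _))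
      | succ i ih =>
        have hv := hconjP _ (pow_mem hsC i) a haP
        rw [show D.s ^ (i + 1) * a * (D.s ^ (i + 1))⁻¹ = D.s * (D.s ^ i * a * (D.s ^ i)⁻¹) * D.s⁻¹ by
          rw [pow_succ']; group, ← hφc _ hsC _ hv]
        rcases ih with e | e <;> rw [e]
        exacts [Or.inr rfl, Or.inl hψ2]
    intro h hh
    obtain ⟨o, ho, τ, hτ, rfl⟩ := D.C_structure h hh
    obtain ⟨i, hi⟩ : ∃ i : ℕ, τ * a * τ⁻¹ = D.s ^ i * a * (D.s ^ i)⁻¹ := by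
      rcases D.S_cases hτ with h' | h'
      · obtain ⟨i, rfl⟩ := mem_powers_iff_mem_zpowers.2 h'
        exact ⟨i, rfl⟩
      · obtain ⟨i, hi⟩ : ∃ i : ℕ, D.s ^ i = τ * D.r := mem_powers_iff_mem_zpowers.2 h'
        refine ⟨i, ?_⟩
        rw [hi]
        calc τ * a * τ⁻¹ = τ * (D.r * a * D.r⁻¹) * τ⁻¹ := by rw [hau']
          _ = _ := by group
    have hv := hconjP _ (pow_mem hsC i) a haP
    rw [show o * τ * a * (o * τ)⁻¹ = o * (τ * a * τ⁻¹) * o⁻¹ by group, hi, ← hφc _ (D.O_le ho) _ hv]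
    rcases hpw i with e | e <;> rw [e]
    · exact Or.inl (hφO o ho a haB)
    · right
      set o' := D.s⁻¹ * o * D.s
      have ho' : o' ∈ F.O := (mem_normalizer_iff''.1 (D.C_le_normalizer_O hsC) o).1 ho
      refine ⟨φ (o' * a * o'⁻¹), hφO o' ho' a haB, ?_⟩
      simp only [hψ]
      rw [hφc _ hsC _ (hconjP _ (D.O_le ho') a haP), hφc _ (D.O_le ho) _ (hconjP _ hsC a haP)]
      congr 1
      simp only [o']; group
  set e := (orb F.W a).ncard with he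
  have heodd : Odd e := by
    have h := card_orb F.W a
    exact (F.odd_card_O.of_dvd_nat (card_dvd_of_le F.W_le)).of_dvd_nat ⟨_, h.symm⟩
  have hBPf : ∀ b ∈ B, b ∈ Pf ∧ b ≠ 1 := by
    rintro b (hb | ⟨b', hb', rfl⟩)
    · exact horbW b hb
    · have hv := hconjP _ hsC b' (horbW b' hb').1.1
      refine ⟨(hφ _ hv).1, fun h1 => (horbW b' hb').2 ?_⟩
      have h2 := (hφ _ hv).2
      simp only [hψ] at h1
      rw [h1, inv_one, one_mul] at h2
      have h3 := hzC D.s⁻¹ (inv_mem hsC) _ h2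
      rw [show D.s⁻¹ * (D.s * b' * D.s⁻¹) * D.s⁻¹⁻¹ = b' by group] at h3
      exact (hzfix 1 b' (one_mem _) (horbW b' hb').1 (by rwa [inv_one, one_mul])).symm
  have hψinj : Set.InjOn ψ (orb F.W a) := by
    intro b hb b' hb' h
    have hv := hconjP _ hsC b (horbW b hb).1.1
    have hv' := hconjP _ hsC b' (horbW b' hb').1.1
    refine hzfix b b' (horbW b hb).1 (horbW b' hb').1 ?_
    simp only [hψ] at h
    have h2 := (hφ _ hv).2
    rw [h] at h2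
    have h3 := hzC D.s⁻¹ (inv_mem hsC) _ (mul_mem (inv_mem h2) (hφ _ hv').2)
    convert h3 using 1
    group
  obtain ⟨k₀, hk0, hk02, hBk, hke⟩ : ∃ k₀, 0 < k₀ ∧ k₀ ≤ 2 ∧ B.ncard ≤ k₀ * e ∧ k₀ * e + 1 ≤ p ^ 2 := by
    have hbound : ∀ C' : Set G, (∀ b ∈ C', b ∈ Pf ∧ b ≠ 1) → C'.ncard + 1 ≤ p ^ 2 := fun C' hC' => by
      refine le_trans ?_ hPfcard
      rw [← Set.ncard_insert_of_notMem (fun h => (hC' 1 h).2 rfl), ← SetLike.coe_sort_coe, Nat.card_coe_set_eq]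
      exact Set.ncard_le_ncard (Set.insert_subset (one_mem Pf) fun b hb => (hC' b hb).1) (Set.toFinite _)
    by_cases hψa : ψ a ∈ orb F.W a
    · refine ⟨1, one_pos, by norm_num, ?_, ?_⟩
      · rw [one_mul]
        refine Set.ncard_le_ncard ?_ (Set.toFinite _)
        rintro b (hb | ⟨_, ⟨w, hw, rfl⟩, rfl⟩)
        · exact hb
        set o := D.s * w * D.s⁻¹
        have ho : o ∈ F.O := (mem_normalizer_iff.1 (D.C_le_normalizer_O hsC) w).1 (F.W_le hw)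
        have := hφO o ho _ hψa
        simp only [hψ] at this ⊢
        rw [hφc _ (D.O_le ho) _ (hconjP _ hsC a haP)] at this
        convert this using 2
        simp only [o]; group
      · rw [one_mul]
        exact hbound _ horbW
    · refine ⟨2, two_pos, le_rfl, ?_, ?_⟩
      · refine (Set.ncard_union_le _ _).trans ?_
        rw [two_mul]
        exact Nat.add_le_add le_rfl (Set.ncard_image_le (Set.toFinite _))
      · have hdis : Disjoint (orb F.W a) (ψ '' orb F.W a) := by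
          rw [Set.disjoint_left]
          rintro _ hb ⟨_, ⟨w, hw, rfl⟩, rfl⟩
          apply hψa
          set o := D.s * w⁻¹ * D.s⁻¹
          have ho : o ∈ F.O := (mem_normalizer_iff.1 (D.C_le_normalizer_O hsC) _).1 (inv_mem (F.W_le hw))
          have h1 := hφO o ho _ hb
          simp only [hψ] at h1 ⊢
          rw [hφc _ (D.O_le ho) _ (hconjP _ hsC _ (hconjP _ (D.O_le (F.W_le hw)) a haP))] at h1
          convert h1 using 2
          simp only [o]; group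
        have := hbound _ hBPf
        rwa [hB, Set.ncard_union_eq hdis (Set.toFinite _) (Set.toFinite _), hψinj.ncard_image, ← two_mul] at this
  have hc : (orb D.four₁.C a).ncard ≤ p * (k₀ * e) := by
    have hle : orb D.four₁.C a ⊆ (fun q : G × G => q.1 * q.2) '' (B ×ˢ (zpowers z : Set G)) := by
      rintro _ ⟨h, hh, rfl⟩
      exact ⟨(φ (h * a * h⁻¹), (φ (h * a * h⁻¹))⁻¹ * (h * a * h⁻¹)),
        ⟨hsub h hh, (hφ _ (hconjP h hh a haP)).2⟩, by group⟩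
    refine (Set.ncard_le_ncard hle (Set.toFinite _)).trans ((Set.ncard_image_le (Set.toFinite _)).trans ?_)
    rw [Set.ncard_prod, ← Nat.card_coe_set_eq (zpowers z : Set G),
      show Nat.card ↥(zpowers z : Set G) = p from hzcard, mul_comm]
    exact Nat.mul_le_mul_left p hBk
  -- an element moving `a` along `z`
  obtain ⟨m, hm', hmu, hma⟩ : ∃ m ∈ F.R p, D.r * m * D.r⁻¹ = m⁻¹ ∧ a * m ≠ m * a := by
    by_contra hno
    push Not at hno
    exact hA a haP hau ha1 (hno b₁ hb₁ hb₁u) (hno b₂ hb₂ hb₂u)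
  set c := m * a * m⁻¹ * a⁻¹ with hc'
  have hcz : c ∈ zpowers z := hcom m hm' hmu a haP hau
  have hc1 : c ≠ 1 := fun h => hma (by
    rw [hc', mul_inv_eq_one, mul_inv_eq_iff_eq_mul] at h
    exact h.symm)
  set X := (fun x => a * x) '' ((zpowers z : Set G) \ {1}) with hXdef
  have hXn : X.ncard = p - 1 := by
    rw [hXdef, Set.ncard_image_of_injective _ (mul_right_injective a),
      Set.ncard_sdiff_singleton_of_mem (one_mem (zpowers z)), ← Nat.card_coe_set_eq (zpowers z : Set G),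
      show Nat.card ↥(zpowers z : Set G) = p from hzcard]
  have hsp := hX X (by
      rintro _ ⟨x, ⟨hx, -⟩, rfl⟩
      have hzpow : ∀ x ∈ zpowers z, x ^ p = 1 := fun x hx => by
        obtain ⟨j, rfl⟩ := mem_zpowers_iff.1 hx
        rw [← zpow_natCast, zpow_comm, zpow_natCast, hzp, one_zpow]
      obtain ⟨j, rfl⟩ : ∃ j : ℕ, c ^ j = x :=
        mem_powers_iff_mem_zpowers.2 (mem_zpowers_of_cyclic hp hx hcz (hzpow x hx) (hzpow c hcz) hc1)
      refine ⟨m ^ j, mem_top _, ?_⟩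
      show m ^ j * a * (m ^ j)⁻¹ = a * c ^ j
      have hca : Commute c a := (hzcc c hcz a (hPR haP)).symm
      have hcm : Commute c m := (hzcc c hcz m hm').symm
      have hma' : m * a * m⁻¹ = a * c := by rw [← hca.eq, hc', inv_mul_cancel_right]
      clear hx
      induction j with
      | zero => simp
      | succ i ih =>
        calc m ^ (i + 1) * a * (m ^ (i + 1))⁻¹ = m * (m ^ i * a * (m ^ i)⁻¹) * m⁻¹ := by rw [pow_succ']; group
          _ = (m * a * m⁻¹) * (m * c ^ i * m⁻¹) := by rw [ih]; group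
          _ = a * c * c ^ i := by rw [hma', ← (hcm.pow_left i).eq, mul_inv_cancel_right]
          _ = _ := by rw [mul_assoc, ← pow_succ']) (by
      rintro _ ⟨x, ⟨hx, hx1⟩, rfl⟩
      obtain ⟨j, rfl⟩ := mem_zpowers_iff.1 hx
      exact ⟨1, j, by rw [zpow_one], fun h => hx1 h⟩)
  rw [hXn] at hsp
  exact false_kindI heodd hk0 hk02 hp3 (hp.odd_of_ne_two d.hp2) hke
    (le_trans (Nat.mul_le_mul_left 4 hord) hM) hQ le_rfl hc hsp hN

/-- There is no prime of kind `(i)`. -/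
theorem kindI_false {b₁ b₂ : G} (hb₁ : b₁ ∈ D.four₁.R p) (hb₂ : b₂ ∈ D.four₁.R p)
    (hb₁u : D.r * b₁ * D.r⁻¹ = b₁⁻¹) (hb₂u : D.r * b₂ * D.r⁻¹ = b₂⁻¹) : b₁ * b₂ = b₂ * b₁ := by
  by_contra hne
  exact hne (E.five.comm_inverted
    (fun P h₁ h₂ h₃ h₄ _ _ => E.no_fixed hb₁ hb₂ hb₁u hb₂u hne P h₁ h₂ h₃ h₄) b₁ hb₁ b₂ hb₂ hb₁u hb₂u)

end Env

end Cfsg.Lib.GWD.Mixed
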