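import Cfsg.Agent.GWDihedral.Mixed.Basics
import Cfsg.Agent.FourGroupGW.Mixed.Setup
import Cfsg.Agent.Coprime.Generation

/-!
GW dihedral, mixed half: the stabiliser in `C` of the line of a fixed element of prime order.
-/

set_option autoImplicit false
set_option linter.unusedSectionVars false
set_option linter.style.haveILetI false

namespace Cfsg.Lib.GWD.Mixed

open Subgroup
open Cfsg.Lib.GW.Mixed (orb fixed_of_orbit)

universe u

variable {G : Type u} [Group G] [Finite G] (D : GWD.Frame G)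

/-- Conjugate elements of the Sylow subgroup of `C` are conjugate in it. -/
theorem conj_mem_S {x d : G} (hx : x ∈ D.S) (hd : d ∈ D.C) (h : d * x * d⁻¹ ∈ D.S) :
    ∃ τ ∈ D.S, d * x * d⁻¹ = τ * x * τ⁻¹ := by
  obtain ⟨o, ho, τ, hτ, rfl⟩ := D.C_structure d hd
  refine ⟨τ, hτ, ?_⟩
  set y := τ * x * τ⁻¹ with hy
  have hyS : y ∈ D.S := mul_mem (mul_mem hτ hx) (inv_mem hτ)
  have e : o * τ * x * (o * τ)⁻¹ = o * y * o⁻¹ := by rw [hy]; group
  rw [e] at h ⊢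
  have h1 : o * y * o⁻¹ * y⁻¹ ∈ D.O ⊓ D.S := by
    refine mem_inf.2 ⟨?_, mul_mem h (inv_mem hyS)⟩
    rw [show o * y * o⁻¹ * y⁻¹ = o * (y * o⁻¹ * y⁻¹) by group]
    exact mul_mem ho ((mem_normalizer_iff.1 (D.C_le_normalizer_O (D.S_le_C hyS)) _).1 (inv_mem ho))
  rw [D.O_inf_S, mem_bot] at h1
  exact mul_inv_eq_one.1 h1

/-- A subgroup of the Sylow subgroup meeting the classes of both reflections is all of it. -/
theorem eq_S {P : Subgroup G} (hP : P ≤ D.S) {d₁ d₂ : G} (hd₁ : d₁ ∈ D.C) (hd₂ : d₂ ∈ D.C)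
    (h₁ : d₁ * D.r * d₁⁻¹ ∈ P) (h₂ : d₂ * (D.r * D.s) * d₂⁻¹ ∈ P) : P = D.S := by
  haveI : Fact (Nat.Prime 2) := ⟨Nat.prime_two⟩
  refine le_antisymm hP (subgroupOf_eq_top.1 ?_)
  haveI := D.isPGroup_S.isNilpotent
  by_contra hne
  obtain ⟨M, hM, hPM⟩ := (eq_top_or_exists_le_coatom (P.subgroupOf D.S)).resolve_left hne
  haveI := (Group.normalizerCondition_of_isNilpotent (G := D.S)).normal_of_coatom _ hM
  have hcl : ∀ x : D.S, ∀ d ∈ D.C, d * x * d⁻¹ ∈ P → x ∈ M := by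
    intro x d hd h
    obtain ⟨τ, hτ, e⟩ := conj_mem_S D x.2 hd (hP h)
    have hmem : (⟨τ, hτ⟩ * x * ⟨τ, hτ⟩⁻¹ : D.S) ∈ M :=
      hPM (mem_subgroupOf.2 (show τ * x * τ⁻¹ ∈ P by rw [← e]; exact h))
    simpa [mul_assoc] using Normal.conj_mem (H := M) inferInstance _ hmem (⟨τ, hτ⟩ : D.S)⁻¹
  have hr := hcl ⟨D.r, D.r_mem_S⟩ d₁ hd₁ h₁
  have hrs := hcl ⟨D.r * D.s, rs_mem_S D⟩ d₂ hd₂ h₂
  have hs : (⟨D.s, D.s_mem_S⟩ : D.S) ∈ M := by
    have := mul_mem hr hrs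
    rwa [show (⟨D.r, D.r_mem_S⟩ : D.S) * ⟨D.r * D.s, rs_mem_S D⟩ = ⟨D.s, D.s_mem_S⟩ from
      Subtype.ext (s_eq D).symm] at this
  refine hM.1 (top_le_iff.1 fun x _ => ?_)
  have hS : (closure {D.s, D.r} : Subgroup G) ≤ M.map D.S.subtype :=
    (closure_le _).2 (Set.insert_subset ⟨_, hs, rfl⟩ (Set.singleton_subset_iff.2 ⟨_, hr, rfl⟩))
  obtain ⟨y, hy, e⟩ := hS x.2
  rwa [← Subtype.ext e]

theorem orb_inv (K : Subgroup G) (a : G) : orb K a⁻¹ = Inv.inv '' orb K a := by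
  rw [orb, orb, Set.image_image]
  exact Set.image_congr fun k _ => by simp [mul_assoc]

/-- In the stabiliser in `C` of the line of a fixed `a` of prime order, `a` goes to its `W`-orbit or that of `a⁻¹`. -/
theorem line_orbit {p : ℕ} (hp : p.Prime) {a : G} (haW : a ∈ D.four₁.W) (hap : a ^ p = 1) (ha1 : a ≠ 1) {g : G}
    (hg : g ∈ D.C) (hga : g ∈ normalizer (zpowers a : Set G)) :
    g * a * g⁻¹ ∈ orb D.four₁.W a ∨ g * a * g⁻¹ ∈ orb D.four₁.W a⁻¹ := by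
  haveI : Fact (Nat.Prime 2) := ⟨Nat.prime_two⟩
  haveI : Fact p.Prime := ⟨hp⟩
  have hau : D.r * a = a * D.r := (D.four₁.mem_W.1 haW).2.symm
  have hrL : ∀ x ∈ zpowers a, D.r * x * D.r⁻¹ = x := fun x hx => by
    obtain ⟨k, rfl⟩ := mem_zpowers_iff.1 hx
    rw [((show Commute D.r a from hau).zpow_right k).eq, mul_inv_cancel_right]
  set Sg := D.C ⊓ normalizer (zpowers a : Set G) with hSg
  set N := D.O.subgroupOf Sg
  haveI : N.Normal := normal_subgroupOf_of_le_normalizer (inf_le_left.trans D.C_le_normalizer_O)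
  have hUS : D.four₁.U ≤ Sg := le_inf D.four₁.U_le_C fun v hv => centralizer_le_normalizer _ (by
    rw [Cfsg.Lib.Coprime.centralizer_zpowers]
    exact mem_centralizer_singleton_iff.2 (mem_centralizer_iff.1
      (D.four₁.W_le_centralizer_U haW) v hv))
  obtain ⟨P, hP⟩ := (D.four₁.isPGroup_U.comap_subtype (K := Sg)).exists_le_sylow
  have hnil : IsPGroup 2 (Sg ⧸ N) := by
    intro x
    obtain ⟨x, rfl⟩ := QuotientGroup.mk'_surjective N x
    obtain ⟨k, m, hm', hk⟩ := Nat.exists_eq_pow_mul_and_not_dvd (orderOf_pos (x : G)).ne' 2 (by norm_num)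
    refine ⟨k, ?_⟩
    rw [← map_pow]
    refine (QuotientGroup.eq_one_iff _).2 (mem_subgroupOf.2 (D.mem_O.2 ⟨D.mem_C.1 ?_, ?_⟩))
    · exact (pow_mem x.2.1 _ : (x : G) ^ 2 ^ k ∈ D.C)
    · show Odd (orderOf ((x : G) ^ 2 ^ k))
      rw [orderOf_pow_of_dvd (by positivity) (hk ▸ dvd_mul_right _ _), hk,
        Nat.mul_div_cancel_left _ (Nat.two_pow_pos k)]
      exact Nat.not_even_iff_odd.1 fun h => hm' (even_iff_two_dvd.1 h)
  have htop := ((P.mapSurjective (QuotientGroup.mk'_surjective N)).3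
    (hnil.of_equiv Subgroup.topEquiv.symm) le_top)
  obtain ⟨τ, hτ, hτe⟩ : QuotientGroup.mk' N ⟨g, hg, hga⟩ ∈ (P : Subgroup Sg).map (QuotientGroup.mk' N) :=
    htop.le (mem_top _)
  have hoO : g * (τ : G)⁻¹ ∈ D.O := by
    have h1 : QuotientGroup.mk' N (⟨g, hg, hga⟩ * τ⁻¹) = 1 := by rw [map_mul, map_inv, hτe, mul_inv_cancel]
    exact mem_subgroupOf.1 ((QuotientGroup.eq_one_iff _).1 h1)
  have hτa : (τ : G) * a * (τ : G)⁻¹ ∈ zpowers a := (mem_normalizer_iff.1 τ.2.2 a).1 (mem_zpowers a)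
  -- the square of an element of the Sylow subgroup fixes `a`
  have hsq : (τ : G) * τ * a = a * ((τ : G) * τ) := by
    set Pg := (P : Subgroup Sg).map Sg.subtype
    obtain ⟨c, hc, hcS⟩ := exists_conj_S D (P := Pg) (P.2.map _) ((map_subtype_le _).trans inf_le_left)
    have hτP : (τ : G) ∈ Pg := ⟨τ, hτ, rfl⟩
    have hrP : D.r ∈ Pg :=
      ⟨⟨D.r, hUS D.four₁.u_mem_U⟩, hP (mem_subgroupOf.2 D.four₁.u_mem_U), rfl⟩
    rcases sq_S D _ (hcS _ hτP) with h | h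
    swap
    · rw [conj_mul] at h
      rw [conj_eq_one_iff.1 h, one_mul, mul_one]
    have hr' : c * D.r * c⁻¹ ∈ D.S := hcS _ hrP
    have hr's : c * D.r * c⁻¹ ∉ zpowers D.s := fun hz => by
      rcases D.data.sq_zpowers hz (by rw [conj_mul, Cfsg.Lib.GenDihedral.mul_self_of_two D.r_order]; group)
        with e | e
      · have h2 := D.r_order
        rw [conj_eq_one_iff.1 e, orderOf_one] at h2; omega
      · exact D.t_ne_r ((MulAut.conj c).injective (show c * D.t * c⁻¹ = c * D.r * c⁻¹ by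
          rw [e.trans D.t_eq, mul_inv_eq_iff_eq_mul.2 (D.mem_C.1 hc)]))
    have hinv := (D.data.reflection (by rwa [D.coe_sylow]) hr's).2 _ h
    have hrel : D.r * τ * D.r⁻¹ = (τ : G)⁻¹ := by
      refine (MulAut.conj c).injective ?_
      show c * (D.r * τ * D.r⁻¹) * c⁻¹ = c * (τ : G)⁻¹ * c⁻¹
      calc c * (D.r * τ * D.r⁻¹) * c⁻¹ = c * D.r * c⁻¹ * (c * τ * c⁻¹) * (c * D.r * c⁻¹)⁻¹ := by group
        _ = (c * τ * c⁻¹)⁻¹ := hinv
        _ = _ := by group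
    have h1 : (τ : G)⁻¹ * a * τ = τ * a * (τ : G)⁻¹ := by
      calc (τ : G)⁻¹ * a * τ = (D.r * τ * D.r⁻¹) * (D.r * a * D.r⁻¹) * (D.r * τ * D.r⁻¹)⁻¹ := by
            rw [hrel, hrL a (mem_zpowers a), inv_inv]
        _ = D.r * ((τ : G) * a * (τ : G)⁻¹) * D.r⁻¹ := by group
        _ = _ := hrL _ hτa
    calc (τ : G) * τ * a = τ * (τ * a * (τ : G)⁻¹) * τ := by group
      _ = τ * ((τ : G)⁻¹ * a * τ) * τ := by rw [h1]
      _ = a * ((τ : G) * τ) := by group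
  -- so `τ` sends `a` to itself or its inverse
  obtain ⟨k, hk⟩ := mem_zpowers_iff.1 hτa
  have hkk : a ^ (k * k) = a := by
    calc a ^ (k * k) = ((τ : G) * a * (τ : G)⁻¹) ^ k := by rw [← hk, zpow_mul]
      _ = τ * (τ * a * (τ : G)⁻¹) * (τ : G)⁻¹ := by rw [conj_zpow, hk]
      _ = (τ : G) * τ * a * ((τ : G) * τ)⁻¹ := by group
      _ = a := by rw [hsq, mul_inv_cancel_right]
  have hdiv : (p : ℤ) ∣ (k - 1) * (k + 1) := by
    rw [← orderOf_eq_prime hap ha1, orderOf_dvd_iff_zpow_eq_one, show (k - 1) * (k + 1) = k * k - 1 by ring,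
      zpow_sub, hkk, zpow_one, mul_inv_cancel]
  have hcase : (τ : G) * a * (τ : G)⁻¹ = a ∨ (τ : G) * a * (τ : G)⁻¹ = a⁻¹ := by
    rw [← hk]
    rcases (Nat.prime_iff_prime_int.1 hp).dvd_or_dvd hdiv with h | h
    · left
      rw [← orderOf_eq_prime hap ha1, orderOf_dvd_iff_zpow_eq_one, zpow_sub, zpow_one, mul_inv_eq_one] at h
      exact h
    · right
      rw [← orderOf_eq_prime hap ha1, orderOf_dvd_iff_zpow_eq_one, zpow_add, zpow_one] at h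
      exact eq_inv_of_mul_eq_one_left h
  have hgn : g * a * g⁻¹ = g * (τ : G)⁻¹ * ((τ : G) * a * (τ : G)⁻¹) * (g * (τ : G)⁻¹)⁻¹ := by group
  have hfix : D.r * (g * a * g⁻¹) * D.r⁻¹ = g * a * g⁻¹ := hrL _ ((mem_normalizer_iff.1 hga a).1 (mem_zpowers a))
  rcases hcase with e | e <;> rw [e] at hgn
  · exact Or.inl (fixed_of_orbit haW ⟨_, hoO, hgn.symm⟩ hfix)
  · exact Or.inr (fixed_of_orbit (F := D.four₁) (inv_mem haW) ⟨_, hoO, hgn.symm⟩ hfix)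

/-- A stabiliser containing `r` and a conjugate of `r s` holds a Sylow 2-subgroup of `C`. -/
theorem pow_dvd_of_both {H : Subgroup G} (hH : H ≤ D.C) (hr : D.r ∈ H) {d : G} (hd : d ∈ D.C)
    (hv : d * (D.r * D.s) * d⁻¹ ∈ H) : 2 ^ D.n ∣ Nat.card H := by
  haveI : Fact (Nat.Prime 2) := ⟨Nat.prime_two⟩
  have hp : ∀ x : G, orderOf x = 2 → IsPGroup 2 (zpowers x) := fun x hx =>
    IsPGroup.of_card (n := 1) (by rw [Nat.card_zpowers, hx, pow_one])
  obtain ⟨P₁, hP₁⟩ := ((hp _ D.r_order).comap_subtype (K := H)).exists_le_sylow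
  obtain ⟨P₂, hP₂⟩ := ((hp _ ((MulEquiv.orderOf_eq (MulAut.conj d) _).trans D.rs_order)).comap_subtype
    (K := H)).exists_le_sylow
  obtain ⟨e, he⟩ := MulAction.exists_smul_eq H P₂ P₁
  set Pg := (P₁ : Subgroup H).map H.subtype
  obtain ⟨c, hc, hcS⟩ := exists_conj_S D (P := Pg) (P₁.2.map _) ((map_subtype_le _).trans hH)
  set Pc := Pg.map (MulAut.conj c).toMonoidHom with hPc
  have hle : Pc ≤ D.S := by
    rintro _ ⟨x, hx, rfl⟩
    exact hcS x hx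
  have h1 : c * D.r * c⁻¹ ∈ Pc :=
    ⟨D.r, ⟨⟨D.r, hr⟩, hP₁ (mem_subgroupOf.2 (mem_zpowers D.r)), rfl⟩, rfl⟩
  have h2 : c * (e : G) * d * (D.r * D.s) * (c * (e : G) * d)⁻¹ ∈ Pc := by
    refine ⟨(e : G) * (d * (D.r * D.s) * d⁻¹) * (e : G)⁻¹, ⟨e * ⟨_, hv⟩ * e⁻¹, ?_, rfl⟩, ?_⟩
    · rw [← he]; exact ⟨_, hP₂ (mem_subgroupOf.2 (mem_zpowers _)), rfl⟩
    · show c * ((e : G) * (d * (D.r * D.s) * d⁻¹) * (e : G)⁻¹) * c⁻¹ = _
      group
  have heq := eq_S D hle hc (mul_mem (mul_mem hc (hH e.2)) hd) h1 h2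
  rw [← D.card_S, ← heq, hPc, card_map_of_injective (MulAut.conj c).injective]
  exact card_dvd_of_le (map_subtype_le _)

end Cfsg.Lib.GWD.Mixed
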