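import Cfsg.Agent.GWDihedral.Mixed.Lines
import Cfsg.Agent.GWDihedral.Mixed.Config
import Cfsg.Agent.GWDihedral.Proper.Top
import Cfsg.Agent.GWDihedral.Local.Full
import Cfsg.Agent.FourGroupGW.Mixed.Plane

/-!
GW dihedral, mixed half: a prime of mixed kind moved by both reflections.
-/

set_option autoImplicit false
set_option linter.unusedSectionVars false
set_option linter.style.haveILetI false

namespace Cfsg.Lib.GWD.Mixed

open Subgroup
open Cfsg.Lib.GW (Core le_normalizer_core core_le)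
open Cfsg.Lib.GW.Mixed (orb card_orb Five C_le_normalizer_R commute_of_conj_fixed commute_of_sq fixed_mod)
open Cfsg.Lib.GW.Mixed.Invol (inverted_zpow inverted_pow inverted_div mem_zpowers_of_cyclic decomp)

universe u

variable {G : Type u} [Group G] [Finite G] (D : GWD.Frame G)

/-- What is known at a prime moved by both reflections. -/
structure Env (p : ℕ) (S : Subgroup G) : Prop where
  hm : Minimal G
  hw : D.w₁ ≤ D.w₂
  bounds : D.Bounds
  loc₁ : LocalSpec D.four₁ p S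
  loc₂ : LocalSpec D.four₂ p S
  five : Five p D.r D.O S (D.four₁.R p)

theorem exists_env (hm : Minimal G) (hw : D.w₁ ≤ D.w₂) (hmax : IsCoatom D.C) (hB : D.Bounds) {p : ℕ}
    (hp : p.Prime) {x : G} (hx : x ∈ D.four₁.R p) (hxu : D.r * x * D.r⁻¹ ≠ x) {x' : G} (hx' : x' ∈ D.four₁.R p)
    (hx'u : x' * (D.r * D.s) ≠ D.r * D.s * x') : ∃ S : Subgroup G, Env D p S := by
  haveI : Fact p.Prime := ⟨hp⟩
  obtain ⟨S, hd, hSn, hRS, hmv⟩ := exists_sylData D hp hx hxu
  have hU : ∀ v ∈ D.S, v ∈ normalizer (S : Set G) := fun v hv => hSn hv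
  have h₁ : D.four₁.MovedSylow p S :=
    ⟨hd.le, hd.pgroup, hd.sylow, D.four₁.U_le_iff.2 ⟨hU _ D.t_mem_S, hU _ D.r_mem_S⟩, hmv⟩
  have h₂ : D.four₂.MovedSylow p S :=
    ⟨hd.le, hd.pgroup, hd.sylow, D.four₂.U_le_iff.2 ⟨hU _ D.t_mem_S, hU _ (rs_mem_S D)⟩,
      x', hRS hx', fun h => hx'u (mul_inv_eq_iff_eq_mul.1 h).symm⟩
  obtain ⟨hl₁, hl₂⟩ := D.local_both hm (fun V => hm.properSpec V) hmax hp hd.ne_bot h₁ h₂ hSn
  refine ⟨S, hm, hw, hB, hl₁, hl₂, hp, hd.ne_two, D.four₁.u_sq, D.odd_card_O,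
    D.C_le_normalizer_O (D.S_le_C D.r_mem_S), hd.pgroup, hd.le, hRS, Cfsg.Lib.GW.Mixed.O_le_normalizer_R (F := D.four₁) p,
    Cfsg.Lib.GW.Mixed.u_mem_normalizer_R (F := D.four₁) p, fun a ha hau ha1 => ?_⟩
  obtain ⟨g, -, -, hg⟩ := hl₁.inverted_cyclic (zpowers a)
    (zpowers_le.2 (D.four₁.mem_W.2 ⟨hd.le ha, hau.symm⟩)) (zpowers_le.2 ha) (by rwa [Ne, zpowers_eq_bot])
  refine ⟨g, fun y hy hay hyu => hg y ⟨hy, ?_⟩ hyu⟩
  rw [Cfsg.Lib.Coprime.centralizer_zpowers]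
  exact mem_centralizer_singleton_iff.2 hay.symm

namespace Env

variable {D} {p : ℕ} {S : Subgroup G} (E : Env D p S)
include E

/-- The configuration of the count at a fixed `a` and a commuting inverted element `g` over `z`. -/
theorem cfg {a z g : G} (ha : a ∈ S) (hau : D.r * a = a * D.r) (ha1 : a ≠ 1) (hzp : z ^ p = 1) (hz1 : z ≠ 1)
    (hg : g ∈ S) (hgu : D.r * g * D.r⁻¹ = g⁻¹) (hag : a * g = g * a) (hzg : z ∈ zpowers g) (hg3 : g ^ 3 ≠ 1) :
    Cfg D p a z g :=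
  { hm := E.hm
    top := (E.hm.properSpec D.four₁).top
    inverts := E.hm.invertsSpec D.four₁
    bounds := E.bounds
    hw := E.hw
    hp := E.five.hp
    fus₁ := E.loc₁.fusing_centralizer
    fus₂ := E.loc₂.fusing_centralizer
    core := E.loc₁.core_fixed
    a_W := D.four₁.mem_W.2 ⟨E.five.hSO ha, hau.symm⟩
    a_p := E.five.hS.to_le (zpowers_le.2 ha)
    a_ne := ha1
    z_pow := hzp
    z_ne := hz1
    g_O := E.five.hSO hg
    g_p := E.five.hS.to_le (zpowers_le.2 hg)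
    g_inv := hgu
    g_comm := hag
    g_z := hzg
    g_cube := hg3 }

/-- No fixed central element of `O_p(O)` commutes with an inverted `p'`-element moving it. -/
theorem not_commute_fixed {y : G} (hy : y ∈ D.O) (hyu : D.r * y * D.r⁻¹ = y⁻¹)
    (hyp : ¬ p ∣ orderOf y) (hmove : ∃ r ∈ D.four₁.R p, y * r ≠ r * y)
    {b : G} (hb : b ∈ D.four₁.R p) (hbu : D.r * b * D.r⁻¹ = b) (hb1 : b ≠ 1)
    (hbc : ∀ r ∈ D.four₁.R p, b * r = r * b) : y * b ≠ b * y := by
  intro hyb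
  set F := D.four₁
  have d := E.five
  obtain ⟨r₀, hr₀, hne⟩ := hmove
  haveI : Fact p.Prime := ⟨d.hp⟩
  set H := centralizer ({b} : Set G) with hH
  have hRp : IsPGroup p (F.R p) := d.hS.to_le d.hRS
  have hrot : Rot F H := by
    have h := E.loc₁.fusing_centralizer (zpowers b)
      (zpowers_le.2 (F.mem_W.2 ⟨F.R_le p hb, (mul_inv_eq_iff_eq_mul.1 hbu).symm⟩))
      (hRp.to_le (zpowers_le.2 hb)) (by rwa [Ne, zpowers_eq_bot])
    rwa [zpowers_eq_closure, centralizer_closure] at h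
  have hHtop : H ≠ ⊤ := centralizer_ne_top E.hm hb1
  obtain ⟨-, hic⟩ := E.hm.torusAll F H hHtop hrot.1
  have hRH : F.R p ≤ H := fun r hr => mem_centralizer_singleton_iff.2 (hbc r hr).symm
  have hyH : y ∈ H := mem_centralizer_singleton_iff.2 hyb
  have hmem : ∀ x ∈ F.R p, x ∈ H ⊓ F.O := fun x hx => ⟨hRH hx, F.R_le p hx⟩
  haveI : ((Core H).subgroupOf H).Normal := normal_subgroupOf_of_le_normalizer (le_normalizer_core H)
  set π := QuotientGroup.mk' ((Core H).subgroupOf H) with hπ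
  have hker : ∀ x : H, π x = 1 ↔ (x : G) ∈ Core H := fun x => by
    rw [hπ, QuotientGroup.mk'_apply, QuotientGroup.eq_one_iff, mem_subgroupOf]
  set Y : H := ⟨y, hyH⟩
  -- `y` centralises `R` modulo the core
  have hinv : ∀ i ∈ F.R p, ∀ hi : i ∈ H, D.r * i * D.r⁻¹ = i⁻¹ → Commute (π Y) (π ⟨i, hi⟩) := by
    intro i hiR hi hiu
    rw [commute_iff_eq, ← mul_inv_eq_iff_eq_mul, ← mul_inv_eq_one, ← map_mul, ← map_inv, ← map_mul, ← map_inv,
      ← map_mul, hker]
    exact hic y ⟨hyH, hy⟩ i (hmem i hiR) hyu hiu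
  have hfix : ∀ w ∈ F.R p, ∀ hw : w ∈ H, D.r * w * D.r⁻¹ = w → Commute (π Y) (π ⟨w, hw⟩) := by
    intro w hwR hw hwu
    set W' : H := ⟨w, hw⟩
    set X : H := W' * Y * W'⁻¹ with hX
    have hXu : D.r * (X : G) * D.r⁻¹ = (X : G)⁻¹ := by
      show D.r * (w * y * w⁻¹) * D.r⁻¹ = (w * y * w⁻¹)⁻¹
      calc D.r * (w * y * w⁻¹) * D.r⁻¹ = (D.r * w * D.r⁻¹) * (D.r * y * D.r⁻¹) * (D.r * w * D.r⁻¹)⁻¹ := by group
        _ = _ := by rw [hwu, hyu]; group
    have hXY : Commute (π X) (π Y) := by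
      rw [commute_iff_eq, ← mul_inv_eq_iff_eq_mul, ← mul_inv_eq_one, ← map_mul, ← map_inv, ← map_mul, ← map_inv,
        ← map_mul, hker]
      exact hic (X : G) ⟨X.2, F.O.mul_mem (F.O.mul_mem (F.R_le p hwR) hy) (F.O.inv_mem (F.R_le p hwR))⟩
        y ⟨hyH, hy⟩ hXu hyu
    have hYn : (π Y) ^ orderOf y = 1 := by
      rw [← map_pow, show Y ^ orderOf y = 1 from Subtype.ext (pow_orderOf_eq_one y), map_one]
    have hXn : (π X) ^ orderOf y = 1 := by rw [hX, map_mul, map_mul, map_inv, conj_pow, hYn]; group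
    have h1 : (π X * (π Y)⁻¹) ^ orderOf y = 1 := by
      rw [hXY.inv_right.mul_pow, hXn, inv_pow, hYn, inv_one, mul_one]
    have hc : (X : G) * y⁻¹ ∈ F.R p := by
      have h2 := (F.R p).mul_mem hwR ((mem_normalizer_iff.1 (d.hOR hy) _).1 ((F.R p).inv_mem hwR))
      rwa [show w * (y * w⁻¹ * y⁻¹) = (X : G) * y⁻¹ by show _ = w * y * w⁻¹ * y⁻¹; group] at h2
    obtain ⟨n, hn⟩ := hRp ⟨_, hc⟩
    have h3 : (π X * (π Y)⁻¹) ^ p ^ n = 1 := by
      rw [← map_inv, ← map_mul, ← map_pow,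
        show (X * Y⁻¹) ^ p ^ n = 1 from Subtype.ext (congrArg Subtype.val hn :), map_one]
    have h4 := pow_gcd_eq_one.2 ⟨h1, h3⟩
    rw [Nat.Coprime.pow_right n ((d.hp.coprime_iff_not_dvd.2 hyp).symm), pow_one] at h4
    rw [mul_inv_eq_one, hX, map_mul, map_mul, map_inv, mul_inv_eq_iff_eq_mul] at h4
    exact h4.symm
  -- the commutators are fixed by `r`
  set P : Subgroup G := F.R p ⊓ Core H
  have hPfix : ∀ x ∈ P, D.r * x * D.r⁻¹ = x := by
    have hn : F.U ≤ normalizer (P : Set G) := fun x hx => inf_normalizer_le_normalizer_inf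
      ⟨C_le_normalizer_R p (F.U_le_C hx), le_normalizer_core H (hrot.1 hx)⟩
    have h := E.loc₁.core_fixed H hHtop hrot P (hRp.to_le inf_le_left) inf_le_right hn
    exact fun x hx => mul_inv_eq_iff_eq_mul.2 (mem_centralizer_iff.1 (h hx) D.r F.u_mem_U)
  have hcom : ∀ r ∈ F.R p, y * r * y⁻¹ * r⁻¹ ∈ P := by
    intro r hr
    obtain ⟨w, hw, i, hi, hwu, hiu, rfl⟩ :=
      decomp F.u_sq (F.odd_card_O.of_dvd_nat (card_dvd_of_le (F.R_le p))) d.huR hr
    refine ⟨(F.R p).mul_mem ((mem_normalizer_iff.1 (d.hOR hy) _).1 hr) ((F.R p).inv_mem hr), ?_⟩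
    have h5 := (hfix w hw (hRH hw) (mul_inv_eq_iff_eq_mul.2 hwu)).mul_right (hinv i hi (hRH hi) hiu)
    rw [commute_iff_eq, ← mul_inv_eq_iff_eq_mul, ← mul_inv_eq_one, ← map_mul, ← map_mul, ← map_inv, ← map_mul,
      ← map_inv, ← map_mul, hker] at h5
    exact h5
  have hcy : ∀ x ∈ P, Commute y x := fun x hx => by
    refine commute_of_conj_fixed (F := F) hy hyu (hPfix x hx) ?_
    have h6 := hPfix _ (P.mul_mem (hcom x hx.1) hx)
    rwa [inv_mul_cancel_right] at h6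
  have hr0 : y * r₀ * y⁻¹ * r₀⁻¹ ∈ P := hcom r₀ hr₀
  refine hne (Cfsg.Lib.Components.centralize_of_commutator_fixed hRp ?_ (d.hOR hy) hr₀ ?_)
  · exact (d.hp.coprime_iff_not_dvd.2 hyp).symm
  · rw [commutatorElement_def, (hcy _ hr0).eq, mul_inv_cancel_right]

/-- THE MIXED CASE. -/
theorem mixed_false {y : G} (hy : y ∈ D.O) (hyu : D.r * y * D.r⁻¹ = y⁻¹) (hyp : ¬ p ∣ orderOf y)
    (hmove : ∃ r ∈ D.four₁.R p, y * r ≠ r * y) {a : G} (ha : a ∈ D.four₁.R p) (hao : orderOf a = p)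
    (hau : D.r * a * D.r⁻¹ = a) (hac : ∀ r ∈ D.four₁.R p, a * r = r * a) : False := by
  classical
  set F := D.four₁
  have d := E.five
  have hp := d.hp
  haveI : Fact p.Prime := ⟨hp⟩
  have ha1 : a ≠ 1 := fun h => hp.one_lt.ne (by rw [← hao, h, orderOf_one])
  have haU : D.r * a = a * D.r := mul_inv_eq_iff_eq_mul.1 hau
  have haW : a ∈ F.W := F.mem_W.2 ⟨F.R_le p ha, haU.symm⟩
  -- the elements of order `p` of the centre of `R`
  let V : Subgroup G :=
    { carrier := {x | x ∈ F.R p ∧ (∀ r ∈ F.R p, x * r = r * x) ∧ x ^ p = 1}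
      one_mem' := ⟨one_mem _, fun r _ => by simp, one_pow p⟩
      mul_mem' := fun {x x'} hx hx' => ⟨(F.R p).mul_mem hx.1 hx'.1,
        fun r hr => (Commute.mul_left (hx.2.1 r hr) (hx'.2.1 r hr) :),
        by rw [Commute.mul_pow (hx.2.1 x' hx'.1), hx.2.2, hx'.2.2, one_mul]⟩
      inv_mem' := fun {x} hx => ⟨(F.R p).inv_mem hx.1, fun r hr => (Commute.inv_left (hx.2.1 r hr) :),
        by rw [inv_pow, hx.2.2, inv_one]⟩ }
  have hVR : V ≤ F.R p := fun x hx => hx.1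
  have hVS : V ≤ S := hVR.trans d.hRS
  have hVO : V ≤ F.O := hVS.trans d.hSO
  have hVp : ∀ x ∈ V, x ^ p = 1 := fun x hx => hx.2.2
  have hVc : ∀ x ∈ V, ∀ r ∈ F.R p, x * r = r * x := fun x hx => hx.2.1
  have haV : a ∈ V := ⟨ha, hac, by rw [← hao, pow_orderOf_eq_one]⟩
  have hVn : ∀ g ∈ normalizer (F.R p : Set G), ∀ x ∈ V, g * x * g⁻¹ ∈ V := by
    intro g hg x hx
    refine ⟨(mem_normalizer_iff.1 hg x).1 hx.1, fun r hr => ?_, by rw [conj_pow, hx.2.2]; group⟩
    have h1 := hx.2.1 _ ((mem_normalizer_iff''.1 hg r).1 hr)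
    calc g * x * g⁻¹ * r = g * (x * (g⁻¹ * r * g)) * g⁻¹ := by group
      _ = g * ((g⁻¹ * r * g) * x) * g⁻¹ := by rw [h1]
      _ = r * (g * x * g⁻¹) := by group
  have hVC : ∀ g ∈ D.C, ∀ x ∈ V, g * x * g⁻¹ ∈ V := fun g hg => hVn g (C_le_normalizer_R (F := F) p hg)
  have hVO' : ∀ g ∈ F.O, ∀ x ∈ V, g * x * g⁻¹ ∈ V := fun g hg => hVn g (d.hOR hg)
  have hVu : ∀ x ∈ V, x⁻¹ * (D.r * x * D.r⁻¹) ∈ V := fun x hx => V.mul_mem (V.inv_mem hx) (hVn D.r d.huR x hx)
  have hnc : ∀ b ∈ V, D.r * b * D.r⁻¹ = b → y * b = b * y → b = 1 := by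
    intro b hb hbu hyb
    by_contra hb1
    exact E.not_commute_fixed hy hyu hyp hmove (hVR hb) hbu hb1 (hVc b hb) hyb
  obtain ⟨z, hzV, hzu, hz1⟩ : ∃ z ∈ V, D.r * z * D.r⁻¹ = z⁻¹ ∧ z ≠ 1 := by
    refine ⟨(y * a * y⁻¹)⁻¹ * (D.r * (y * a * y⁻¹) * D.r⁻¹), hVu _ (hVO' y hy a haV),
      inverted_div F.u_sq _, fun h => ha1 (hnc a haV hau ?_)⟩
    rw [inv_mul_eq_one] at h
    exact (commute_of_conj_fixed (F := F) hy hyu hau h.symm).eq
  have hzp : z ^ p = 1 := hVp z hzV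
  have hinvV : ∀ x ∈ V, D.r * x * D.r⁻¹ = x⁻¹ → x ∈ zpowers z := fun x hx hxu =>
    d.mem_zpowers (d.hRS ha) haU ha1 (hVS hzV) (hac z (hVR hzV)) hzu hzp hz1 (hVS hx) (hac x (hVR hx)) hxu
      (hVp x hx)
  -- the fixed points of `r` on `V`
  set Vf : Subgroup G := V ⊓ centralizer ({D.r} : Set G) with hVf
  have hVfu : ∀ x, x ∈ Vf ↔ x ∈ V ∧ D.r * x * D.r⁻¹ = x := fun x => by
    rw [hVf, mem_inf, mem_centralizer_singleton_iff, mul_inv_eq_iff_eq_mul]
    exact and_congr_right fun _ => eq_comm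
  have hVfa : zpowers a = Vf := by
    refine eq_of_le_of_card_ge (zpowers_le.2 ((hVfu a).2 ⟨haV, hau⟩)) ?_
    rw [Nat.card_zpowers, hao]
    have hzc : Nat.card (zpowers z) = p := by rw [Nat.card_zpowers, orderOf_eq_prime hzp hz1]
    rw [← hzc]
    refine Nat.card_le_card_of_injective (fun b : Vf => (⟨(y * b * y⁻¹)⁻¹ * (D.r * (y * b * y⁻¹) * D.r⁻¹),
      hinvV _ (hVu _ (hVO' y hy b ((hVfu b).1 b.2).1)) (inverted_div F.u_sq _)⟩ : zpowers z)) ?_
    rintro ⟨b, hb⟩ ⟨b', hb'⟩ h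
    have h1 : (y * b * y⁻¹)⁻¹ * (D.r * (y * b * y⁻¹) * D.r⁻¹) =
        (y * b' * y⁻¹)⁻¹ * (D.r * (y * b' * y⁻¹) * D.r⁻¹) := congrArg Subtype.val h
    have hbb : ∀ c, D.r * c * D.r⁻¹ = c → D.r * (y * c * y⁻¹) * D.r⁻¹ = y⁻¹ * c * y := by
      intro c hc
      calc D.r * (y * c * y⁻¹) * D.r⁻¹ = (D.r * y * D.r⁻¹) * (D.r * c * D.r⁻¹) * (D.r * y * D.r⁻¹)⁻¹ := by group
        _ = _ := by rw [hyu, hc, inv_inv]
    rw [hbb b ((hVfu b).1 hb).2, hbb b' ((hVfu b').1 hb').2] at h1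
    have h2 : Commute (y * y) (b * b'⁻¹) := by
      have h3 : b⁻¹ * (y * y)⁻¹ * b = b'⁻¹ * (y * y)⁻¹ * b' := by
        calc b⁻¹ * (y * y)⁻¹ * b = y⁻¹ * ((y * b * y⁻¹)⁻¹ * (y⁻¹ * b * y)) * y⁻¹ := by group
          _ = y⁻¹ * ((y * b' * y⁻¹)⁻¹ * (y⁻¹ * b' * y)) * y⁻¹ := by rw [h1]
          _ = _ := by group
      calc y * y * (b * b'⁻¹) = y * y * b * (b⁻¹ * (y * y)⁻¹ * b) * (b'⁻¹ * (y * y)⁻¹ * b')⁻¹ * b'⁻¹ := by
            rw [h3]; group
        _ = b * b'⁻¹ * (y * y) := by simp [mul_assoc]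
    have h4 : b * b'⁻¹ ∈ Vf := Vf.mul_mem hb (Vf.inv_mem hb')
    exact Subtype.ext (mul_inv_eq_one.1
      (hnc _ ((hVfu _).1 h4).1 ((hVfu _).1 h4).2 (commute_of_sq (GW.Frame.odd_orderOf F.odd_card_O hy) h2).eq))
  -- every element of `V` is `a ^ i * z ^ j`
  have hVgen : ∀ x ∈ V, ∃ i j : ℤ, x = a ^ i * z ^ j := by
    intro x hx
    obtain ⟨w, hw, i, hi, hwu, hiu, rfl⟩ :=
      decomp F.u_sq (F.odd_card_O.of_dvd_nat (card_dvd_of_le hVO))
        (mem_normalizer_fintype fun x hx => hVn D.r d.huR x hx) hx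
    obtain ⟨k, rfl⟩ := mem_zpowers_iff.1 (hVfa ▸ (hVfu w).2 ⟨hw, mul_inv_eq_iff_eq_mul.2 hwu⟩ : w ∈ zpowers a)
    obtain ⟨l, rfl⟩ := mem_zpowers_iff.1 (hinvV i hi hiu)
    exact ⟨k, l, rfl⟩
  have haz : Commute a z := hac z (hVR hzV)
  have hline : ∀ x ∈ V, ∀ x' ∈ zpowers x, x' ≠ 1 → zpowers x' = zpowers x := by
    intro x hx x' hx' h1
    have hx1 : x ≠ 1 := fun e => h1 (by rw [e, zpowers_one_eq_bot, mem_bot] at hx'; exact hx')
    refine eq_of_le_of_card_ge (zpowers_le.2 hx') ?_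
    rw [Nat.card_zpowers, Nat.card_zpowers, orderOf_eq_prime (hVp x hx) hx1,
      orderOf_eq_prime (hVp x' ((zpowers_le.2 hx) hx')) h1]
  -- the lines of `V`
  set A : Finset (Subgroup G) :=
    insert (zpowers z) ((Finset.range p).image fun k => zpowers (a * z ^ k)) with hA
  have hAall : ∀ x ∈ V, x ≠ 1 → zpowers x ∈ A := by
    intro x hx hx1
    obtain ⟨i, j, rfl⟩ := hVgen x hx
    by_cases hai : a ^ i = 1
    · rw [hai, one_mul] at hx1 ⊢
      rw [hline z hzV _ (zpow_mem (mem_zpowers z) j) hx1]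
      exact Finset.mem_insert_self _ _
    obtain ⟨k, hk⟩ := mem_zpowers_iff.1 (mem_zpowers_of_cyclic hp (mem_zpowers a)
      (zpow_mem (mem_zpowers a) i) (hVp a haV) (hVp _ (V.zpow_mem haV i)) hai)
    obtain ⟨m, hm'⟩ : ∃ m : ℕ, z ^ m = z ^ (j * k) := mem_powers_iff_mem_zpowers.2 (mem_zpowers_iff.2 ⟨_, rfl⟩)
    refine Finset.mem_insert_of_mem (Finset.mem_image.2 ⟨m % p, Finset.mem_range.2 (Nat.mod_lt _ hp.pos), ?_⟩)
    have hz' : z ^ (m % p) = z ^ (j * k) := by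
      rw [← hm', ← orderOf_eq_prime hzp hz1, pow_mod_orderOf]
    have hxk : (a ^ i * z ^ j) ^ k = a * z ^ (m % p) := by
      rw [((haz.zpow_left i).zpow_right j).mul_zpow, hk, ← zpow_mul, hz']
    rw [← hxk]
    refine hline _ hx _ (zpow_mem (mem_zpowers _) k) fun h => ha1 ?_
    rw [hxk] at h
    refine GW.Frame.eq_one_of_fixed_inverted (GW.Frame.odd_orderOf F.odd_card_O (F.R_le p ha)) hau ?_
    rw [eq_inv_of_mul_eq_one_left h, ← conj_inv, inverted_pow hzu]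
  have hAle : A.card ≤ p + 1 :=
    (Finset.card_insert_le _ _).trans (Nat.succ_le_succ (Finset.card_image_le.trans (by simp)))
  -- the orbit of `a` under `C`
  set Δ := orb F.C a with hΔ
  have hΔV : ∀ x ∈ Δ, x ∈ V := by
    rintro _ ⟨g, hg, rfl⟩
    exact hVC g hg a haV
  have hne1 : ∀ x ∈ Δ, x ≠ 1 := by
    rintro _ ⟨g, -, rfl⟩ h
    refine ha1 ?_
    calc a = g⁻¹ * (g * a * g⁻¹) * g := by group
      _ = 1 := by rw [show g * a * g⁻¹ = 1 from h]; group
  set L : Finset (Subgroup G) := (Set.toFinite Δ).toFinset.image zpowers with hL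
  have hmemL : ∀ l, l ∈ L ↔ ∃ x ∈ Δ, zpowers x = l := fun l => by simp [hL]
  have hLA : L ⊆ A := fun l hl => by
    obtain ⟨x, hx, rfl⟩ := (hmemL l).1 hl
    exact hAall x (hΔV x hx) (hne1 x hx)
  have hLinv : ∀ g ∈ D.C, ∀ x : G, zpowers x ∈ L → zpowers (g * x * g⁻¹) ∈ L := by
    intro g hg x hx
    obtain ⟨_, ⟨k, hk, rfl⟩, hxe⟩ := (hmemL _).1 hx
    refine (hmemL _).2 ⟨_, ⟨g * k, mul_mem hg hk, rfl⟩, ?_⟩
    have h := congrArg (Subgroup.map (MulAut.conj g).toMonoidHom) hxe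
    rw [MonoidHom.map_zpowers, MonoidHom.map_zpowers] at h
    simpa [mul_assoc] using h
  -- each line holds as many elements of the orbit as the line of `a`
  set Sg := D.C ⊓ normalizer (zpowers a : Set G) with hSg
  have hea : ((Set.toFinite Δ).toFinset.filter fun x => zpowers x = zpowers a).card = (orb Sg a).ncard := by
    rw [Set.ncard_eq_toFinset_card _ (Set.toFinite _)]
    congr 1
    ext x
    simp only [Finset.mem_filter, Set.Finite.mem_toFinset]
    constructor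
    · rintro ⟨⟨g, hg, rfl⟩, h⟩
      refine ⟨g, mem_inf.2 ⟨hg, ?_⟩, rfl⟩
      rw [mem_normalizer_iff_map_conj_eq, MonoidHom.map_zpowers]
      exact h
    · rintro ⟨g, ⟨hg, hgn⟩, rfl⟩
      refine ⟨⟨g, hg, rfl⟩, ?_⟩
      have h := mem_normalizer_iff_map_conj_eq.1 hgn
      rw [MonoidHom.map_zpowers] at h
      exact h
  set f := (orb Sg a).ncard with hf
  have hfib : ∀ l ∈ L, ((Set.toFinite Δ).toFinset.filter fun x => zpowers x = l).card = f := by
    intro l hl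
    obtain ⟨_, ⟨g, hg, rfl⟩, rfl⟩ := (hmemL l).1 hl
    rw [← hea]
    refine (Finset.card_nbij' (fun x => g * x * g⁻¹) (fun x => g⁻¹ * x * g) ?_ ?_ ?_ ?_).symm
    · intro x hx
      simp only [Finset.coe_filter, Set.Finite.mem_toFinset, Set.mem_setOf_eq] at hx ⊢
      obtain ⟨⟨k, hk, rfl⟩, hx⟩ := hx
      refine ⟨⟨g * k, mul_mem hg hk, by group⟩, ?_⟩
      have := congrArg (Subgroup.map (MulAut.conj g).toMonoidHom) hx
      rwa [MonoidHom.map_zpowers, MonoidHom.map_zpowers] at this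
    · intro x hx
      simp only [Finset.coe_filter, Set.Finite.mem_toFinset, Set.mem_setOf_eq] at hx ⊢
      obtain ⟨⟨k, hk, rfl⟩, hx⟩ := hx
      refine ⟨⟨g⁻¹ * k, mul_mem (inv_mem hg) hk, by group⟩, ?_⟩
      have := congrArg (Subgroup.map (MulAut.conj g⁻¹).toMonoidHom) hx
      rw [MonoidHom.map_zpowers, MonoidHom.map_zpowers] at this
      simpa [mul_assoc] using this
    · intro x _; group
    · intro x _; group
  have ho : Δ.ncard = L.card * f := by
    rw [Set.ncard_eq_toFinset_card _ (Set.toFinite _),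
      Finset.card_eq_sum_card_image zpowers, ← hL, Finset.sum_congr rfl hfib, Finset.sum_const, smul_eq_mul]
  have hf0 : 0 < f := (Set.ncard_pos (Set.toFinite _)).2 ⟨_, 1, one_mem _, rfl⟩
  have hf2 : f ≤ 2 * (orb F.W a).ncard := by
    have h : orb Sg a ⊆ orb F.W a ∪ orb F.W a⁻¹ := by
      rintro _ ⟨g, ⟨hg, hgn⟩, rfl⟩
      exact line_orbit D hp haW (hVp a haV) ha1 hg hgn
    refine (Set.ncard_le_ncard h (Set.toFinite _)).trans ((Set.ncard_union_le _ _).trans ?_)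
    rw [orb_inv, Set.ncard_image_of_injective _ inv_injective, two_mul]
  -- three lines
  have hyline : ∀ x : G, D.r * x * D.r⁻¹ = x⁻¹ → x ∈ D.O → x * a * x⁻¹ ∈ zpowers a → Commute x a := by
    intro x hxu hxO hx
    refine commute_of_conj_fixed (F := F) hxO hxu hau ?_
    obtain ⟨k, hk⟩ := mem_zpowers_iff.1 hx
    rw [← hk, ← conj_zpow, hau]
  have hL3 : 3 ≤ L.card := by
    have hmem : ∀ g ∈ D.O, zpowers (g * a * g⁻¹) ∈ L :=
      fun g hg => (hmemL _).2 ⟨_, ⟨g, D.O_le hg, rfl⟩, rfl⟩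
    have hya : ∀ x ∈ D.O, D.r * x * D.r⁻¹ = x⁻¹ → (Commute x a → Commute y a) →
        zpowers (x * a * x⁻¹) ≠ zpowers a := fun x hx hxu hxy h =>
      ha1 (hnc a haV hau (hxy (hyline x hxu hx (h ▸ mem_zpowers _))).eq)
    have h12 : zpowers (y * a * y⁻¹) ≠ zpowers a := hya y hy hyu id
    have h13 : zpowers (y⁻¹ * a * y⁻¹⁻¹) ≠ zpowers a := by
      refine hya y⁻¹ (inv_mem hy) ?_ fun h => by simpa using h.inv_left
      rw [← conj_inv, hyu]
    have h23 : zpowers (y * a * y⁻¹) ≠ zpowers (y⁻¹ * a * y⁻¹⁻¹) := fun h => by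
      refine hya (y * y) (mul_mem hy hy) ?_ (fun h => commute_of_sq (GW.Frame.odd_orderOf F.odd_card_O hy) h) ?_
      · rw [← conj_mul, hyu, mul_inv_rev]
      · have h' := congrArg (Subgroup.map (MulAut.conj y).toMonoidHom) h
        rw [MonoidHom.map_zpowers, MonoidHom.map_zpowers] at h'
        simpa [mul_assoc] using h'
    have hsub : ({zpowers a, zpowers (y * a * y⁻¹), zpowers (y⁻¹ * a * y⁻¹⁻¹)} : Finset (Subgroup G)) ⊆ L := by
      intro l hl
      simp only [Finset.mem_insert, Finset.mem_singleton] at hl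
      rcases hl with rfl | rfl | rfl
      · simpa using hmem 1 (one_mem _)
      · exact hmem y hy
      · exact hmem _ (inv_mem hy)
    refine le_trans ?_ (Finset.card_le_card hsub)
    rw [Finset.card_eq_three.2 ⟨_, _, _, h12.symm, h13.symm, h23, rfl⟩]
  -- at most `p - 1`
  have hLp : L.card + 1 ≤ p := by
    by_contra hlt
    rcases eq_or_ne L A with hLA' | hLA'
    · -- all lines: the orbit has odd length
      have hsub : ∀ x ∈ V, x ≠ 1 → zpowers x ∈ L := fun x hx hx1 => hLA' ▸ hAall x hx hx1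
      obtain ⟨v, hv, hv1, hvl⟩ : ∃ v ∈ V, v ≠ 1 ∧ (D.r * D.s) * v * (D.r * D.s)⁻¹ ∈ zpowers v := by
        have hq : (D.r * D.s) * (D.r * D.s) = 1 := D.four₂.u_sq
        by_cases h : a⁻¹ * ((D.r * D.s) * a * (D.r * D.s)⁻¹) = 1
        · refine ⟨a, haV, ha1, ?_⟩
          rw [← inv_mul_eq_one.1 h]
          exact mem_zpowers a
        · refine ⟨_, V.mul_mem (V.inv_mem haV) (hVC _ (D.S_le_C (rs_mem_S D)) a haV), h, ?_⟩
          rw [inverted_div hq]
          exact inv_mem (mem_zpowers _)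
      obtain ⟨_, ⟨g, hg, rfl⟩, hgv⟩ := (hmemL _).1 (hsub v hv hv1)
      have hgv' : zpowers (g * a * g⁻¹) = zpowers v := hgv
      have hrs : g⁻¹ * (D.r * D.s) * g⁻¹⁻¹ ∈ Sg := by
        refine mem_inf.2 ⟨mul_mem (mul_mem (inv_mem hg) (D.S_le_C (rs_mem_S D))) (inv_mem (inv_mem hg)), ?_⟩
        rw [mem_normalizer_iff_map_conj_eq, MonoidHom.map_zpowers]
        have h1 := congrArg (Subgroup.map (MulAut.conj ((D.r * D.s))).toMonoidHom) hgv'
        rw [MonoidHom.map_zpowers, MonoidHom.map_zpowers] at h1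
        have h2 : zpowers ((D.r * D.s) * v * (D.r * D.s)⁻¹) = zpowers v :=
          hline v hv _ hvl fun e => hv1 (conj_eq_one_iff.1 e)
        have h3 : zpowers ((MulAut.conj (D.r * D.s)).toMonoidHom (g * a * g⁻¹)) = zpowers (g * a * g⁻¹) := by
          rw [h1, hgv']
          exact h2
        have h4 := congrArg (Subgroup.map (MulAut.conj g⁻¹).toMonoidHom) h3
        rw [MonoidHom.map_zpowers, MonoidHom.map_zpowers] at h4
        simpa [mul_assoc] using h4
      have hr : D.r ∈ Sg := by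
        refine mem_inf.2 ⟨D.S_le_C D.r_mem_S, ?_⟩
        rw [mem_normalizer_iff_map_conj_eq, MonoidHom.map_zpowers]
        exact congrArg zpowers hau
      obtain ⟨q, hq⟩ := pow_dvd_of_both D inf_le_left hr (inv_mem hg) hrs
      have hcard := card_orb F.C a
      rw [show Nat.card F.C = 4 * D.m from D.card_C] at hcard
      have hcardSg := card_orb Sg a
      have hcen : Sg ⊓ centralizer ({a} : Set G) = F.C ⊓ centralizer ({a} : Set G) := by
        refine le_antisymm (inf_le_inf_right _ inf_le_left) (le_inf (le_inf inf_le_left ?_) inf_le_right)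
        intro x hx
        exact centralizer_le_normalizer _ (by rw [Cfsg.Lib.Coprime.centralizer_zpowers]; exact hx.2)
      rw [hcen, ← hf] at hcardSg
      rw [ho, mul_assoc, hcardSg, hq, Frame.m] at hcard
      obtain ⟨k, hk⟩ : ∃ k, D.n = k + 2 := ⟨D.n - 2, by have := D.three_le; omega⟩
      rw [hk, Nat.add_sub_cancel, pow_add] at hcard
      have h5 : L.card * q = Nat.card D.O := Nat.eq_of_mul_eq_mul_left (show 0 < 2 ^ k * 2 ^ 2 by positivity)
        (by linarith)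
      obtain ⟨j, hj⟩ := (Nat.odd_mul.1 (h5.symm ▸ D.odd_card_O)).1
      -- so some line is missing
      have hzA : zpowers z ∉ (Finset.range p).image fun k => zpowers (a * z ^ k) := by
        intro h
        obtain ⟨k, -, hk⟩ := Finset.mem_image.1 h
        have h1 : a * z ^ k ∈ zpowers z := hk ▸ mem_zpowers _
        have h2 : a ∈ zpowers z := by
          have := mul_mem h1 (inv_mem (pow_mem (mem_zpowers z) k))
          rwa [mul_inv_cancel_right] at this
        obtain ⟨i, hi⟩ := mem_zpowers_iff.1 h2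
        exact ha1 (GW.Frame.eq_one_of_fixed_inverted (GW.Frame.odd_orderOf F.odd_card_O (F.R_le p ha)) hau
          (hi ▸ inverted_zpow hzu i))
      have hcardA : A.card = p + 1 := by
        rw [hA, Finset.card_insert_of_notMem hzA, Finset.card_image_of_injOn, Finset.card_range]
        intro i hi i' hi' he
        have h1 : a * z ^ i' ∈ zpowers (a * z ^ i) := (show zpowers (a * z ^ i) = _ from he) ▸ mem_zpowers _
        obtain ⟨m, hm'⟩ := mem_zpowers_iff.1 h1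
        rw [((show Commute a (z ^ i) from haz.pow_right i)).mul_zpow] at hm'
        have h2 := Cfsg.Lib.GW.Mixed.fixed_mul_inverted_inj (F := F) (b := a ^ m) (b' := a)
          (x := (z ^ i) ^ m) (x' := z ^ i')
          (F.O.zpow_mem (F.O.pow_mem (hVO hzV) i) m) (F.O.pow_mem (hVO hzV) i')
          (F.O.zpow_mem (hVO haV) m) (hVO haV) (by rw [← conj_zpow, hau]) hau
          (inverted_zpow (inverted_pow hzu i) m) (inverted_pow hzu i')
          ((((Commute.refl z).pow_left i).zpow_left m).pow_right i').eq hm'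
        have h3 : (p : ℤ) ∣ m - 1 := by
          rw [← hao, orderOf_dvd_iff_zpow_eq_one, zpow_sub, zpow_one, h2.1, mul_inv_cancel]
        obtain ⟨l, hl⟩ := h3
        have h4 : z ^ i = z ^ i' := by
          rw [← h2.2, show m = (p : ℤ) * l + 1 by omega, zpow_add_one, zpow_mul, zpow_natCast, ← pow_mul,
            mul_comm i p, pow_mul, hzp, one_pow, one_zpow, one_mul]
        have h5 := pow_inj_mod.1 h4
        rwa [orderOf_eq_prime hzp hz1, Nat.mod_eq_of_lt (Finset.mem_range.1 hi),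
          Nat.mod_eq_of_lt (Finset.mem_range.1 hi')] at h5
      obtain ⟨i, hi⟩ := hp.odd_of_ne_two d.hp2
      rw [hLA', hcardA] at hj
      omega
    · -- one line is missing, normalised by `C`
      have hlt' : L.card < A.card := Finset.card_lt_card (hLA.ssubset_of_ne hLA')
      obtain ⟨l, hlA, hlL⟩ := Finset.exists_of_ssubset (hLA.ssubset_of_ne hLA')
      have hone : ∀ l' ∈ A, l' ∉ L → l' = l := by
        intro l' h' h''
        have h := Finset.card_sdiff_of_subset hLA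
        exact Finset.card_le_one.1 (by omega : (A \ L).card ≤ 1) l' (Finset.mem_sdiff.2 ⟨h', h''⟩) l
          (Finset.mem_sdiff.2 ⟨hlA, hlL⟩)
      obtain ⟨v, hvV, hv1, rfl⟩ : ∃ v ∈ V, v ≠ 1 ∧ zpowers v = l := by
        rcases Finset.mem_insert.1 hlA with rfl | h
        · exact ⟨z, hzV, hz1, rfl⟩
        · obtain ⟨k, -, rfl⟩ := Finset.mem_image.1 h
          refine ⟨_, V.mul_mem haV (V.pow_mem hzV k), fun e => ha1 ?_, rfl⟩
          refine GW.Frame.eq_one_of_fixed_inverted (GW.Frame.odd_orderOf F.odd_card_O (F.R_le p ha)) hau ?_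
          rw [eq_inv_of_mul_eq_one_left e, ← conj_inv, inverted_pow hzu]
      have hCv : ∀ g ∈ D.C, zpowers (g * v * g⁻¹) = zpowers v := fun g hg => by
        refine hone _ (hAall _ (hVC g hg v hvV) fun e => hv1 (conj_eq_one_iff.1 e)) fun h => hlL ?_
        have h1 := hLinv g⁻¹ (inv_mem hg) _ h
        rwa [show g⁻¹ * (g * v * g⁻¹) * g⁻¹⁻¹ = v by group] at h1
      -- it is `⟨z⟩`
      have hvz : zpowers v = zpowers z := by
        by_cases h : v⁻¹ * (D.r * v * D.r⁻¹) = 1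
        · refine absurd ?_ hlL
          have hva : v ∈ zpowers a := hVfa ▸ (hVfu v).2 ⟨hvV, (inv_mul_eq_one.1 h).symm⟩
          rw [hline a haV v hva hv1]
          exact (hmemL _).2 ⟨a, ⟨1, one_mem _, by group⟩, rfl⟩
        · have hd : v⁻¹ * (D.r * v * D.r⁻¹) ∈ zpowers v :=
            mul_mem (inv_mem (mem_zpowers v)) ((hCv D.r (D.S_le_C D.r_mem_S)).le (mem_zpowers _))
          have hdz : v⁻¹ * (D.r * v * D.r⁻¹) ∈ zpowers z := hinvV _ (hVu v hvV) (inverted_div F.u_sq v)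
          rw [← hline v hvV _ hd h, hline z hzV _ hdz h]
      have hzn : F.O ≤ normalizer ((zpowers z : Subgroup G) : Set G) := fun g hg => by
        rw [mem_normalizer_iff_map_conj_eq, ← hvz, MonoidHom.map_zpowers]
        exact hCv g (D.O_le hg)
      have hdiff : ∀ x ∈ V, x⁻¹ * (D.r * x * D.r⁻¹) ∈ zpowers z := fun x hx =>
        hinvV _ (hVu x hx) (inverted_div F.u_sq x)
      have hd := fixed_mod (F := F) hzn (fun g hg => mem_normalizer_fintype fun x hx => hVO' g hg x hx) hdiff hy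
        hyu haV hau
      have hyz : Commute y z := by
        obtain ⟨k, hk⟩ := mem_zpowers_iff.1 ((mem_normalizer_iff.1 (hzn hy) z).1 (mem_zpowers z))
        refine commute_of_sq (GW.Frame.odd_orderOf F.odd_card_O hy) (mul_inv_eq_iff_eq_mul.1 ?_)
        have e2 : y⁻¹ * z * y = z ^ k := by
          calc y⁻¹ * z * y = ((D.r * y * D.r⁻¹) * (D.r * z * D.r⁻¹) * (D.r * y * D.r⁻¹)⁻¹)⁻¹ := by
                rw [hyu, hzu]; group
            _ = (D.r * (y * z * y⁻¹) * D.r⁻¹)⁻¹ := by group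
            _ = z ^ k := by rw [← hk, inverted_zpow hzu k, inv_inv]
        calc y * y * z * (y * y)⁻¹ = y * (y * z * y⁻¹) * y⁻¹ := by group
          _ = y * (y⁻¹ * z * y) * y⁻¹ := by rw [← hk, e2]
          _ = z := by group
      obtain ⟨j, hj⟩ := mem_zpowers_iff.1 hd
      refine ha1 (hnc a haV hau (Cfsg.Lib.Components.centralize_of_commutator_fixed (d.hS.to_le d.hRS) ?_
        (d.hOR hy) ha ?_))
      · exact (hp.coprime_iff_not_dvd.2 hyp).symm
      · rw [commutatorElement_def, ← hj, (hyz.zpow_right j).eq, mul_inv_cancel_right]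
  -- the count
  have hp5 : 5 ≤ p := by
    by_contra h
    have h4 : p = 4 := by omega
    rw [h4] at hp
    exact absurd hp (by norm_num)
  have hg3 : z ^ 3 ≠ 1 := fun h => by
    have h1 := orderOf_dvd_of_pow_eq_one h
    rw [orderOf_eq_prime hzp hz1] at h1
    have := Nat.le_of_dvd (by norm_num) h1
    omega
  obtain ⟨M, Q, hM, hQ, hX, hN⟩ := (E.cfg (d.hRS ha) haU ha1 hzp hz1 (hVS hzV) hzu (hac z (hVR hzV))
    (mem_zpowers z) hg3).count
  rw [orderOf_eq_prime hzp hz1] at hM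
  set X := Δ \ orb Sg a with hXdef
  have hXn : X.ncard = (L.card - 1) * f := by
    rw [hXdef, Set.ncard_sdiff ?_ (Set.toFinite _), ho, Nat.sub_mul, one_mul]
    rintro _ ⟨g, hg, rfl⟩
    exact ⟨g, hg.1, rfl⟩
  have hsp := hX X (by
      rintro _ ⟨⟨g, -, rfl⟩, -⟩
      exact ⟨g, mem_top _, rfl⟩) (by
      rintro x ⟨hx, hxa⟩
      obtain ⟨i, j, hij⟩ := hVgen x (hΔV x hx)
      refine ⟨i, j, hij, fun h => hxa ?_⟩
      rw [h, mul_one] at hij
      have hxl : zpowers x = zpowers a := hline a haV x (hij ▸ zpow_mem (mem_zpowers a) i) (hne1 x hx)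
      obtain ⟨g, hg, hge⟩ := hx
      refine ⟨g, mem_inf.2 ⟨hg, ?_⟩, hge⟩
      rw [mem_normalizer_iff_map_conj_eq, MonoidHom.map_zpowers]
      show zpowers (g * a * g⁻¹) = _
      rw [show g * a * g⁻¹ = x from hge, hxl])
  rw [hXn] at hsp
  rw [show (orb D.four₁.C a).ncard = L.card * f from ho] at hN
  exact false_mixed ((Set.ncard_pos (Set.toFinite (orb F.W a))).2 ⟨_, 1, one_mem _, rfl⟩) hf0 hf2 hL3 (by omega)
    (by omega) hQ le_rfl rfl hsp hN

end Env

end Cfsg.Lib.GWD.Mixed
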