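import Cfsg.Agent.GWDihedral.Mixed.MovedCore
import Cfsg.Agent.FourGroupGW.Mixed.Plane
import Cfsg.Agent.Coprime.Generation
import Cfsg.Agent.OddLocal.Transitivity
import Cfsg.Agent.Components.Misc.BenderPair

/-!
GW dihedral, mixed half, SPLIT: for `n = 3` a prime `p` with `r s` centralising a noncyclic `O_p(O)` has `O` centralising
`O_p(O)`.
-/

set_option autoImplicit false
set_option linter.unusedSectionVars false
set_option linter.style.haveILetI false

namespace Cfsg.Lib.GWD.Mixed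

open Subgroup
open scoped commutatorElement
open Cfsg.Lib.GW (Core le_normalizer_core core_le)
open Cfsg.Lib.GW.Mixed (commute_of_conj_fixed fixed_mod)
open Cfsg.Lib.GW.Mixed.Invol (inverted_div inverted_zpow decomp eq_one_of_inverted_fixed)

universe u

variable {G : Type u} [Group G] [Finite G]

/-- The element `g` carries what `u` inverts in `O_q(O)` and is centralised by the inverted elements of prime power
order. -/
structure Axis (F : GW.Frame G) (q : ℕ) (g : G) : Prop where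
  mem : g ∈ F.R q
  inv : F.u * g * F.u⁻¹ = g⁻¹
  all : ∀ x ∈ F.R q, F.u * x * F.u⁻¹ = x⁻¹ → x ∈ zpowers g
  comm : ∀ y ∈ F.O, F.u * y * F.u⁻¹ = y⁻¹ → ∀ l : ℕ, l.Prime → IsPGroup l (zpowers y) → Commute y g

variable (D : GWD.Frame G)

theorem R_commute {p q : ℕ} [Fact p.Prime] [Fact q.Prime] (h : p ≠ q) {x y : G} (hx : x ∈ D.four₂.R p)
    (hy : y ∈ D.four₂.R q) : x * y = y * x :=
  (mem_centralizer_iff.1 (Cfsg.Lib.OddLocal.FittingParts.le_centralizer_of_disjoint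
    ((D.four₂.R_le p).trans (Cfsg.Lib.GW.Mixed.O_le_normalizer_R q))
    ((D.four₂.R_le q).trans (Cfsg.Lib.GW.Mixed.O_le_normalizer_R p))
    (IsPGroup.coprime_card_of_ne p q h _ _ ((Cfsg.Lib.Components.isPGroup_pCore p).map _)
      ((Cfsg.Lib.Components.isPGroup_pCore q).map _)) hx) y hy).symm

/-- Where `u` moves `O_q(O)` the inverted part is an axis. -/
theorem exists_axis_moved (hm : Minimal G) (hTA : TorusAll D.four₂) {p q : ℕ} [Fact p.Prime] [Fact q.Prime]
    (hp2 : p ≠ 2) (hq2 : q ≠ 2) (hqp : q ≠ p)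
    (hcent : ∀ X : Subgroup G, IsPGroup q X → D.four₂.U ≤ normalizer (X : Set G) →
      ∃ s ∈ D.four₂.U, s ≠ 1 ∧ X ≤ centralizer {s})
    (hfix : ∀ y ∈ D.four₂.R p, y * D.four₂.u = D.four₂.u * y) {E : Subgroup G} (hE : E ≤ D.four₂.R p)
    [IsMulCommutative E] (hEc : ¬ IsCyclic E) (hmov : ∃ x ∈ D.four₂.R q, D.four₂.u * x * D.four₂.u⁻¹ ≠ x) :
    ∃ g, Axis D.four₂ q g := by
  set F := D.four₂
  have hRp : IsPGroup p (F.R p) := (Cfsg.Lib.Components.isPGroup_pCore p).map _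
  have hRq : IsPGroup q (F.R q) := (Cfsg.Lib.Components.isPGroup_pCore q).map _
  have huR : F.u ∈ normalizer (F.R q : Set G) := Cfsg.Lib.GW.Mixed.u_mem_normalizer_R q
  set f := (MulAut.conj F.σ).toMonoidHom with hf
  set E' := E.map f
  have hE'W : E' ≤ F.W := by
    rintro _ ⟨e, he, rfl⟩
    exact (mem_normalizer_iff.1 (σ_mem_normalizer_W F hm) e).1 (F.mem_W.2 ⟨F.R_le p (hE he), hfix e (hE he)⟩)
  have hinj : Function.Injective f := (MulAut.conj F.σ).injective
  haveI : IsMulCommutative E' := ⟨⟨fun a b => Subtype.ext (by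
    obtain ⟨x, hx, hxa⟩ := a.2
    obtain ⟨y, hy, hyb⟩ := b.2
    show (a : G) * b = b * a
    rw [← hxa, ← hyb, ← map_mul, ← map_mul, setLike_mul_comm hx hy])⟩⟩
  have hE'c : ¬ IsCyclic E' := fun h => by
    haveI := h
    exact hEc (isCyclic_of_injective (E.equivMapOfInjective f hinj).toMonoidHom
      (E.equivMapOfInjective f hinj).injective)
  obtain ⟨x₀, hx₀, hx₀u⟩ := hmov
  obtain ⟨e, he, he1, hemov⟩ := Cfsg.Lib.OddLocal.Transitivity.exists_fixed_outside hE'c (R := F.R q)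
    (D := centralizer {F.u}) (hE'W.trans (F.W_le.trans (Cfsg.Lib.GW.Mixed.O_le_normalizer_R q)))
    (IsPGroup.coprime_card_of_ne p q hqp.symm _ _ ((hRp.to_le hE).map _) hRq)
    (fun h => hx₀u (mul_inv_eq_iff_eq_mul.2 (mem_centralizer_singleton_iff.1 (h hx₀)).symm))
  obtain ⟨w, hw, hwu⟩ := SetLike.not_le_iff_exists.1 hemov
  obtain ⟨r, hr, hre⟩ := he
  have hre' : F.σ * r * F.σ⁻¹ = e := hre
  set H := centralizer ({r} : Set G)
  have hr1 : r ≠ 1 := fun h => he1 (by rw [← hre', h]; group)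
  have hH := centralizer_ne_top hm hr1
  have hrR : r ∈ F.R p := hE hr
  have hUH : F.U ≤ H := F.U_le_iff.2 ⟨mem_centralizer_singleton_iff.2 (F.mem_C.1 (F.O_le (F.R_le p hrR))).symm,
    mem_centralizer_singleton_iff.2 (hfix r hrR).symm⟩
  have hRH : F.R q ≤ H := fun x hx => mem_centralizer_singleton_iff.2 (R_commute D hqp hx hrR)
  have hinvH : ∀ y ∈ F.O, F.u * y * F.u⁻¹ = y⁻¹ → y ∈ H := fun y hy hyu => by
    have hfx : ∀ x ∈ F.R p, F.u * x * F.u⁻¹ = x := fun x hx => mul_inv_eq_iff_eq_mul.2 (hfix x hx).symm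
    exact mem_centralizer_singleton_iff.2 (commute_of_conj_fixed hy hyu (hfx r hrR)
      (hfx _ ((mem_normalizer_iff.1 (Cfsg.Lib.GW.Mixed.O_le_normalizer_R p hy) r).1 hrR))).eq
  -- an element inverted by `t`
  set z := w⁻¹ * (F.u * w * F.u⁻¹) with hzdef
  have hwR : w ∈ F.R q := hw.1
  have hzR : z ∈ F.R q := mul_mem (inv_mem hwR) ((mem_normalizer_iff.1 huR w).1 hwR)
  have hzu : F.u * z * F.u⁻¹ = z⁻¹ := inverted_div F.u_sq w
  have hzt : Commute z F.t := F.mem_C.1 (F.O_le (F.R_le q hzR))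
  have hze : Commute e z := by
    have hwe : Commute e w := (mem_centralizer_singleton_iff.1 hw.2).symm
    have heu : Commute e F.u := (F.mem_W.1 (hE'W ⟨r, hr, hre⟩)).2
    exact hwe.inv_right.mul_right ((heu.mul_right hwe).mul_right heu.inv_right)
  have hz1 : z ≠ 1 := fun h => hwu (mem_centralizer_singleton_iff.2
    (mul_inv_eq_iff_eq_mul.1 (inv_mul_eq_one.1 h).symm).symm)
  set z' := F.σ⁻¹ * z * F.σ with hz'
  have hz'p : IsPGroup q (zpowers z') := by
    have h : zpowers z' = (zpowers z).map (MulAut.conj F.σ⁻¹).toMonoidHom := by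
      rw [MonoidHom.map_zpowers]; simp [hz']
    rw [h]
    exact (hRq.to_le (zpowers_le.2 hzR)).map _
  have hz'H : z' ∈ H := mem_centralizer_singleton_iff.2 (by
    calc z' * r = F.σ⁻¹ * (z * (F.σ * r * F.σ⁻¹)) * F.σ := by rw [hz']; group
      _ = F.σ⁻¹ * (F.σ * r * F.σ⁻¹ * z) * F.σ := by rw [hre', hze.eq]
      _ = r * z' := by rw [hz']; group)
  have hz't : F.t * z' * F.t⁻¹ = z'⁻¹ := by
    calc F.t * z' * F.t⁻¹ = F.σ⁻¹ * ((F.σ * F.t * F.σ⁻¹) * z * (F.σ * F.t * F.σ⁻¹)⁻¹) * F.σ := by rw [hz']; group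
      _ = z'⁻¹ := by rw [F.σ_t, hzu, hz']; group
  have hz'v : F.t * F.u * z' = z' * (F.t * F.u) := by
    calc F.t * F.u * z' = F.σ⁻¹ * ((F.σ * (F.t * F.u) * F.σ⁻¹) * z) * F.σ := by rw [hz']; group
      _ = F.σ⁻¹ * (z * (F.σ * (F.t * F.u) * F.σ⁻¹)) * F.σ := by rw [F.σ_v, hzt.eq]
      _ = z' * (F.t * F.u) := by rw [hz']; group
  have hz'1 : z' ≠ 1 := fun h => hz1 (by
    calc z = F.σ * z' * F.σ⁻¹ := by rw [hz']; group
      _ = 1 := by rw [h]; group)
  -- invariant `q`-groups of `H ∩ O` meet the core in fixed elements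
  have hcore : ∀ X : Subgroup G, IsPGroup q X → X ≤ F.O → F.U ≤ normalizer (X : Set G) →
      X ⊓ Core H ≤ centralizer (F.U : Set G) := by
    intro X hXp hXO hXU x hx
    refine F.mem_centralizer_U.2 ⟨F.mem_C.1 (F.O_le (hXO hx.1)), ?_⟩
    by_contra hne
    exact moved_core F hq2 hcent hUH (X := X ⊓ Core H) (hXp.to_le inf_le_left) inf_le_right
      (Cfsg.Lib.Coprime.le_normalizer_inf hXU (hUH.trans (le_normalizer_core H)))
      (fun y hy => mem_centralizer_singleton_iff.2 (F.mem_C.1 (F.O_le (hXO hy.1))))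
      ⟨x, hx, fun h => hne (mul_inv_eq_iff_eq_mul.1 h).symm⟩ hz'H hz'p hz'1 hz't hz'v
  obtain ⟨htor, hic⟩ := hTA H hH hUH
  have hRU : F.U ≤ normalizer (F.R q : Set G) := fun v hv =>
    Cfsg.Lib.GW.Mixed.C_le_normalizer_R q (F.U_le_C hv)
  obtain ⟨g, hg, hgu, hgall, -, -⟩ := F.inverted_cyclic_of hUH htor hic hRH (F.R_le q) hRU
    (hcore _ hRq (F.R_le q) hRU)
  refine ⟨g, hg, hgu, hgall, ?_⟩
  intro y hy hyu l hl hyp
  haveI : Fact l.Prime := ⟨hl⟩
  by_cases hlq : l = q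
  · subst hlq
    have hyR : zpowers y ≤ normalizer (F.R l : Set G) :=
      zpowers_le.2 (Cfsg.Lib.GW.Mixed.O_le_normalizer_R l hy)
    have hUy : F.U ≤ normalizer (zpowers y : Set G) := by
      rw [F.U_le_iff]
      constructor <;> rw [mem_normalizer_iff_map_conj_eq, MonoidHom.map_zpowers]
      · show zpowers (F.t * y * F.t⁻¹) = _
        rw [mul_inv_eq_iff_eq_mul.2 (F.mem_C.1 (F.O_le hy)).symm]
      · show zpowers (F.u * y * F.u⁻¹) = _; rw [hyu, zpowers_inv]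
    have hXU : F.U ≤ normalizer ((F.R l ⊔ zpowers y : Subgroup G) : Set G) := fun v hv => by
      rw [mem_normalizer_iff_map_conj_eq, Subgroup.map_sup, mem_normalizer_iff_map_conj_eq.1 (hRU hv),
        mem_normalizer_iff_map_conj_eq.1 (hUy hv)]
    have hXp := hRq.to_sup_of_normal_left' hyp hyR
    have hXO : F.R l ⊔ zpowers y ≤ F.O := sup_le (F.R_le l) (zpowers_le.2 hy)
    obtain ⟨g', hg', -, hall, -, -⟩ := F.inverted_cyclic_of hUH htor hic
      (sup_le hRH (zpowers_le.2 (hinvH y hy hyu))) hXO hXU (hcore _ hXp hXO hXU)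
    obtain ⟨i, hi⟩ := mem_zpowers_iff.1 (hall y (mem_sup_right (mem_zpowers y)) hyu)
    obtain ⟨j, hj⟩ := mem_zpowers_iff.1 (hall g (mem_sup_left hg) hgu)
    rw [← hi, ← hj]
    exact (Commute.refl g').zpow_zpow i j
  · -- an element of order prime to `q`
    set d := y * g * y⁻¹ * g⁻¹ with hd
    have hyH := hinvH y hy hyu
    have hdcore : d ∈ Core H := hic y ⟨hyH, hy⟩ g ⟨hRH hg, F.R_le q hg⟩ hyu hgu
    have hdR : d ∈ F.R q :=
      mul_mem ((mem_normalizer_iff.1 (Cfsg.Lib.GW.Mixed.O_le_normalizer_R q hy) g).1 hg) (inv_mem hg)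
    have hfixed : ∀ x ∈ F.R q, x ∈ Core H → F.u * x * F.u⁻¹ = x := fun x h1 h2 => mul_inv_eq_iff_eq_mul.2
      (F.mem_centralizer_U.1 (hcore _ hRq (F.R_le q) hRU ⟨h1, h2⟩)).2.symm
    have hyd : Commute y d := commute_of_conj_fixed hy hyu (hfixed d hdR hdcore) (hfixed _
      ((mem_normalizer_iff.1 (Cfsg.Lib.GW.Mixed.O_le_normalizer_R q hy) d).1 hdR)
      ((mem_normalizer_iff.1 (le_normalizer_core H hyH) d).1 hdcore))
    refine Cfsg.Lib.Components.centralize_of_commutator_fixed hRq ?_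
      (Cfsg.Lib.GW.Mixed.O_le_normalizer_R q hy) hg ?_
    · obtain ⟨k, hk⟩ := IsPGroup.iff_card.1 hyp
      rw [Nat.card_zpowers] at hk
      rw [hk]; exact ((Nat.coprime_primes hl Fact.out).2 hlq).pow_left k
    · show y * d * y⁻¹ = d
      rw [hyd.eq, mul_inv_cancel_right]

/-- The axes exist at all primes. -/
theorem exists_axis (hm : Minimal G) (hTA : TorusAll D.four₂) {p : ℕ} [Fact p.Prime] (hp2 : p ≠ 2)
    (hcent : ∀ q : ℕ, q.Prime → q ≠ p → (∃ x ∈ D.four₂.R q, D.four₂.u * x * D.four₂.u⁻¹ ≠ x) →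
      ∀ X : Subgroup G, IsPGroup q X → D.four₂.U ≤ normalizer (X : Set G) →
        ∃ s ∈ D.four₂.U, s ≠ 1 ∧ X ≤ centralizer {s})
    (hfix : ∀ y ∈ D.four₂.R p, y * D.four₂.u = D.four₂.u * y) {E : Subgroup G} (hE : E ≤ D.four₂.R p)
    [IsMulCommutative E] (hEc : ¬ IsCyclic E) {q : ℕ} (hq : q.Prime) : ∃ g, Axis D.four₂ q g := by
  haveI : Fact q.Prime := ⟨hq⟩
  by_cases hmov : ∃ x ∈ D.four₂.R q, D.four₂.u * x * D.four₂.u⁻¹ ≠ x
  · have hqp : q ≠ p := by
      rintro rfl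
      obtain ⟨x, hx, hne⟩ := hmov
      exact hne (mul_inv_eq_iff_eq_mul.2 (hfix x hx).symm)
    refine exists_axis_moved D hm hTA hp2 ?_ hqp (hcent q hq hqp hmov) hfix hE hEc hmov
    obtain ⟨x, hx, hne⟩ := hmov
    have hx1 : x ≠ 1 := fun h => hne (by rw [h]; group)
    obtain ⟨y, hy, hy2, hy1⟩ := Cfsg.Lib.GW.Mixed.exists_order_p hq
      ((Cfsg.Lib.Components.isPGroup_pCore q).map _) (fun h => hx1 (mem_bot.1 (h ▸ hx)))
    exact Cfsg.Lib.GW.Mixed.ne_two hq (D.four₂.R_le q hy) hy2 hy1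
  · push Not at hmov
    refine ⟨1, one_mem _, by group, fun x hx hxu => mem_zpowers_iff.2 ⟨0, ?_⟩, fun y _ _ _ _ _ =>
      Commute.one_right y⟩
    rw [zpow_zero]
    exact (GW.Frame.eq_one_of_fixed_inverted (GW.Frame.odd_orderOf D.four₂.odd_card_O (D.four₂.R_le q hx))
      (hmov x hx) hxu).symm

/-- The elements of `O` acting on `O_q(O)` trivially on `⟨g⟩` and modulo it. -/
theorem stab_mul {X : Subgroup G} {g o o' : G} (hg : Commute o g) (hg' : Commute o' g)
    (h : ∀ x ∈ X, o * x * o⁻¹ * x⁻¹ ∈ zpowers g) (h' : ∀ x ∈ X, o' * x * o'⁻¹ * x⁻¹ ∈ zpowers g) :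
    Commute (o * o') g ∧ ∀ x ∈ X, o * o' * x * (o * o')⁻¹ * x⁻¹ ∈ zpowers g := by
  refine ⟨hg.mul_left hg', fun x hx => ?_⟩
  obtain ⟨k, hk⟩ := mem_zpowers_iff.1 (h' x hx)
  have e : o * g ^ k * o⁻¹ = g ^ k := by rw [(hg.zpow_right k).eq, mul_inv_cancel_right]
  have e2 : o * o' * x * (o * o')⁻¹ * x⁻¹ = o * (o' * x * o'⁻¹ * x⁻¹) * o⁻¹ * (o * x * o⁻¹ * x⁻¹) := by group
  rw [e2, ← hk, e]
  exact mul_mem (mem_zpowers_iff.2 ⟨k, rfl⟩) (h x hx)

/-- SPLIT. -/
theorem cent_of_split (hm : Minimal G) (hmax : IsCoatom D.C) (hn : D.n = 3) (hTA : TorusAll D.four₂) {p : ℕ}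
    [Fact p.Prime] (hp2 : p ≠ 2)
    (hcent : ∀ q : ℕ, q.Prime → q ≠ p → (∃ x ∈ D.four₂.R q, D.four₂.u * x * D.four₂.u⁻¹ ≠ x) →
      ∀ X : Subgroup G, IsPGroup q X → D.four₂.U ≤ normalizer (X : Set G) →
        ∃ s ∈ D.four₂.U, s ≠ 1 ∧ X ≤ centralizer {s})
    (hfix : ∀ y ∈ D.four₂.R p, y * D.four₂.u = D.four₂.u * y) {E : Subgroup G} (hE : E ≤ D.four₂.R p)
    [IsMulCommutative E] (hEc : ¬ IsCyclic E) : ∀ o ∈ D.O, ∀ x ∈ D.four₂.R p, o * x = x * o := by
  classical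
  set F := D.four₂
  choose ax hax using fun q : {q : ℕ // q.Prime} => exists_axis D hm hTA hp2 hcent hfix hE hEc q.2
  have hodd := F.odd_card_O
  -- `O` normalises the axes
  have hWax : ∀ q, ∀ w ∈ F.W, w * ax q * w⁻¹ ∈ zpowers (ax q) := by
    intro q w hw
    refine (hax q).all _ ((mem_normalizer_iff.1 (Cfsg.Lib.GW.Mixed.O_le_normalizer_R _ (F.W_le hw)) _).1
      (hax q).mem) ?_
    have hwu : F.u * w * F.u⁻¹ = w := mul_inv_eq_iff_eq_mul.2 (F.mem_W.1 hw).2.symm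
    calc F.u * (w * ax q * w⁻¹) * F.u⁻¹ =
          (F.u * w * F.u⁻¹) * (F.u * ax q * F.u⁻¹) * (F.u * w * F.u⁻¹)⁻¹ := by group
      _ = _ := by rw [hwu, (hax q).inv, conj_inv]
  have hinvcomm : ∀ q, ∀ y ∈ F.O, F.u * y * F.u⁻¹ = y⁻¹ → Commute y (ax q) := by
    intro q y hy hyu
    have hle : zpowers y ≤ centralizer ({ax q} : Set G) := Cfsg.Lib.Coprime.le_of_forall_sylow fun l hl => by
      haveI := Fact.mk hl
      obtain ⟨P⟩ := (inferInstance : Nonempty (Sylow l (zpowers y)))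
      refine ⟨P, fun x hx => mem_centralizer_singleton_iff.2 ?_⟩
      have hxy := map_subtype_le _ hx
      obtain ⟨k, rfl⟩ := mem_zpowers_iff.1 hxy
      exact ((hax q).comm _ (zpow_mem hy k) (inverted_zpow hyu k) l hl
        ((P.2.map _).to_le (zpowers_le.2 hx))).eq
    exact mem_centralizer_singleton_iff.1 (hle (mem_zpowers y))
  have hOax : ∀ q, F.O ≤ normalizer (zpowers (ax q) : Set G) := by
    intro q o ho
    obtain ⟨w, hw, i, hi, hwu, hiu, rfl⟩ := decomp F.u_sq hodd (F.U_le_normalizer_O F.u_mem_U) ho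
    rw [mem_normalizer_iff_map_conj_eq, MonoidHom.map_zpowers]
    refine eq_of_le_of_card_ge (zpowers_le.2 ?_) ?_
    · show w * i * ax q * (w * i)⁻¹ ∈ _
      rw [show w * i * ax q * (w * i)⁻¹ = w * (i * ax q * i⁻¹) * w⁻¹ by group,
        (hinvcomm q i hi hiu).eq, mul_inv_cancel_right]
      exact hWax q w (F.mem_W.2 ⟨hw, hwu.symm⟩)
    · rw [Nat.card_zpowers, Nat.card_zpowers]
      exact (MulEquiv.orderOf_eq (MulAut.conj (w * i)) (ax q)).ge
  -- the inverted elements act on each `R` trivially on and modulo the axis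
  have hstab : ∀ q, ∀ y ∈ F.O, F.u * y * F.u⁻¹ = y⁻¹ → ∀ x ∈ F.R q.1, y * x * y⁻¹ * x⁻¹ ∈ zpowers (ax q) := by
    intro q y hy hyu x hx
    haveI := Fact.mk q.2
    have huR : F.u ∈ normalizer (F.R q.1 : Set G) := Cfsg.Lib.GW.Mixed.u_mem_normalizer_R q.1
    obtain ⟨w, hw, i, hi, hwu, hiu, rfl⟩ :=
      decomp F.u_sq (hodd.of_dvd_nat (card_dvd_of_le (F.R_le q.1))) huR hx
    have hd : ∀ v ∈ F.R q.1, v⁻¹ * (F.u * v * F.u⁻¹) ∈ zpowers (ax q) := fun v hv => (hax q).all _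
      (mul_mem (inv_mem hv) ((mem_normalizer_iff.1 huR v).1 hv)) (inverted_div F.u_sq v)
    have h1 := fixed_mod (hOax q) (Cfsg.Lib.GW.Mixed.O_le_normalizer_R q.1) hd hy hyu hw
      (mul_inv_eq_iff_eq_mul.2 hwu)
    obtain ⟨k, rfl⟩ := mem_zpowers_iff.1 ((hax q).all i hi hiu)
    have e : y * (ax q) ^ k * y⁻¹ = (ax q) ^ k := by
      rw [((hinvcomm q y hy hyu).zpow_right k).eq, mul_inv_cancel_right]
    rw [show y * (w * (ax q) ^ k) * y⁻¹ * (w * (ax q) ^ k)⁻¹ =
      y * w * y⁻¹ * (y * (ax q) ^ k * y⁻¹) * ((ax q) ^ k)⁻¹ * w⁻¹ by group, e, mul_inv_cancel_right]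
    exact h1
  -- elements of order prime to `q` act trivially on `R q`
  have htriv : ∀ q : {q : ℕ // q.Prime}, ∀ o ∈ F.O, Commute o (ax q) →
      (∀ x ∈ F.R q.1, o * x * o⁻¹ * x⁻¹ ∈ zpowers (ax q)) → (orderOf o).Coprime q.1 →
      ∀ x ∈ F.R q.1, o * x = x * o := by
    intro q o ho hog hos hcop x hx
    haveI := Fact.mk q.2
    refine Cfsg.Lib.Components.centralize_of_commutator_fixed
      ((Cfsg.Lib.Components.isPGroup_pCore q.1).map _) hcop (Cfsg.Lib.GW.Mixed.O_le_normalizer_R q.1 ho) hx ?_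
    obtain ⟨k, hk⟩ := mem_zpowers_iff.1 (hos x hx)
    show o * (o * x * o⁻¹ * x⁻¹) * o⁻¹ = o * x * o⁻¹ * x⁻¹
    rw [← hk, (hog.zpow_right k).eq, mul_inv_cancel_right]
  -- inverted elements of prime power order lie on their axes
  haveI : Group.IsSolvable F.O := Cfsg.Agent.PF.isSolvable_of_odd F.O hodd
  have hmem : ∀ q : {q : ℕ // q.Prime}, ∀ y ∈ F.O, F.u * y * F.u⁻¹ = y⁻¹ → IsPGroup q.1 (zpowers y) →
      y ∈ zpowers (ax q) := by
    intro q y hy hyu hyp
    haveI := Fact.mk q.2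
    let N : Subgroup F.O :=
      { carrier := {o | (∀ l : {l : ℕ // l.Prime}, l ≠ q → ∀ x ∈ F.R l.1, (o : G) * x = x * o) ∧
          Commute (o : G) (ax q) ∧ ∀ x ∈ F.R q.1, (o : G) * x * (o : G)⁻¹ * x⁻¹ ∈ zpowers (ax q)}
        one_mem' := ⟨fun _ _ _ _ => by simp, Commute.one_left _, fun _ _ => by simp [one_mem]⟩
        mul_mem' := fun {o o'} h h' => ⟨fun l hl x hx => (Commute.mul_left (h.1 l hl x hx) (h'.1 l hl x hx) :),
          (stab_mul h.2.1 h'.2.1 h.2.2 h'.2.2).1, (stab_mul h.2.1 h'.2.1 h.2.2 h'.2.2).2⟩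
        inv_mem' := fun {o} h => ⟨fun l hl x hx => (Commute.inv_left (h.1 l hl x hx) :), h.2.1.inv_left,
          fun x hx => by
            obtain ⟨k, hk⟩ := mem_zpowers_iff.1 (inv_mem (h.2.2 x hx))
            have e : (o : G)⁻¹ * (ax q) ^ k * o = (ax q) ^ k := by
              rw [((h.2.1.inv_left).zpow_right k).eq, inv_mul_cancel_right]
            show ((o⁻¹ : F.O) : G) * x * ((o⁻¹ : F.O) : G)⁻¹ * x⁻¹ ∈ _
            rw [Subgroup.coe_inv, inv_inv, show (o : G)⁻¹ * x * o * x⁻¹ =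
              (o : G)⁻¹ * ((o : G) * x * (o : G)⁻¹ * x⁻¹)⁻¹ * o by group, ← hk, e]
            exact mem_zpowers_iff.2 ⟨k, rfl⟩⟩ }
    haveI : N.Normal := ⟨fun o ho c => by
      have hc := c.2
      refine ⟨fun l hl x hx => ?_, ?_, fun x hx => ?_⟩
      · have hx' := (mem_normalizer_iff''.1 (Cfsg.Lib.GW.Mixed.O_le_normalizer_R l.1 hc) x).1 hx
        have h := ((show Commute (o : G) _ from ho.1 l hl _ hx')).map (MulAut.conj (c : G)).toMonoidHom
        simp only [MulEquiv.coe_toMonoidHom, MulAut.conj_apply] at h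
        rw [show (c : G) * ((c : G)⁻¹ * x * c) * (c : G)⁻¹ = x by group] at h
        simpa using h.eq
      · obtain ⟨k, hk⟩ := mem_zpowers_iff.1 ((mem_normalizer_iff''.1 (hOax q hc) _).1 (mem_zpowers (ax q)))
        have h := (ho.2.1.zpow_right k).map (MulAut.conj (c : G)).toMonoidHom
        rw [hk] at h
        simp only [MulEquiv.coe_toMonoidHom, MulAut.conj_apply] at h
        rw [show (c : G) * ((c : G)⁻¹ * ax q * c) * (c : G)⁻¹ = ax q by group] at h
        simpa using h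
      · have hx' := (mem_normalizer_iff''.1 (Cfsg.Lib.GW.Mixed.O_le_normalizer_R q.1 hc) x).1 hx
        have h := (mem_normalizer_iff.1 (hOax q hc) _).1 (ho.2.2 _ hx')
        have e : (c : G) * ((o : G) * ((c : G)⁻¹ * x * c) * (o : G)⁻¹ * ((c : G)⁻¹ * x * c)⁻¹) * (c : G)⁻¹ =
            ((c * o * c⁻¹ : F.O) : G) * x * ((c * o * c⁻¹ : F.O) : G)⁻¹ * x⁻¹ := by
          simp only [Subgroup.coe_mul, Subgroup.coe_inv]; group
        rwa [e] at h⟩
    -- the elements of `N` of order prime to `q` are central in `N`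
    have hq' : ∀ m ∈ N, (orderOf m).Coprime q.1 → m ∈ centralizer (N : Set F.O) := by
      intro m hmN hcop
      have hfit : ∀ k : F.O, k ∈ zpowers m → k ∈ Cfsg.fittingSubgroup F.O := by
        intro k hk
        refine Cfsg.Lib.Coprime.centralizer_fitting_le (G := F.O) ?_
        rw [Cfsg.Lib.Components.fitting_eq_iSup_pCore]
        refine (le_centralizer_iff.1 (iSup_le fun l => ?_) : zpowers m ≤ _) hk
        rw [zpowers_eq_closure, centralizer_closure]
        intro x hx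
        refine mem_centralizer_singleton_iff.2 (Subtype.ext ?_)
        have hxR : (x : G) ∈ F.R l.1 := ⟨x, hx, rfl⟩
        show (x : G) * m = m * x
        by_cases hl : l = q
        · subst hl
          exact (htriv l m m.2 hmN.2.1 hmN.2.2 (by rwa [Subgroup.orderOf_coe]) x hxR).symm
        · exact (hmN.1 l hl x hxR).symm
      refine (Cfsg.Lib.Coprime.le_of_forall_sylow fun l hl => ?_ :
        zpowers m ≤ centralizer (N : Set F.O)) (mem_zpowers m)
      haveI := Fact.mk hl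
      obtain ⟨P⟩ := (inferInstance : Nonempty (Sylow l (zpowers m)))
      refine ⟨P, ?_⟩
      set Pm := (P : Subgroup (zpowers m)).map (zpowers m).subtype
      by_cases hlq : l = q.1
      · subst hlq
        intro x hx
        have h1 : orderOf x ∣ orderOf m := orderOf_dvd_of_mem_zpowers (map_subtype_le _ hx)
        obtain ⟨k, hk⟩ := IsPGroup.iff_card.1 (P.2.map (zpowers m).subtype)
        have h2 : orderOf x ∣ q.1 ^ k := hk ▸ (Subgroup.orderOf_mk x hx ▸ orderOf_dvd_natCard _)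
        have : orderOf x = 1 := Nat.eq_one_of_dvd_coprimes (hcop.pow_right k) h1 h2
        rw [orderOf_eq_one_iff.1 this]
        exact one_mem _
      · have hle : Pm ≤ Cfsg.pCore l F.O := Cfsg.Lib.Misc.BenderPair.le_pCore_of_le_fitting
          (fun x hx => hfit x (map_subtype_le _ hx)) (P.2.map _)
        intro x hx
        refine mem_centralizer_iff.2 fun o ho => Subtype.ext ?_
        exact (ho : o ∈ N).1 ⟨l, hl⟩ (fun e => hlq (congrArg Subtype.val e)) x ⟨x, hle hx, rfl⟩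
    have hnil : Group.IsNilpotent N := by
      refine Group.of_quotient_center_nilpotent (IsPGroup.isNilpotent (p := q.1) ?_)
      intro a
      obtain ⟨o, rfl⟩ := QuotientGroup.mk'_surjective (center N) a
      obtain ⟨k, m, hm', hk⟩ := Nat.exists_eq_pow_mul_and_not_dvd (orderOf_pos o).ne' q.1 q.2.ne_one
      refine ⟨k, ?_⟩
      rw [← map_pow]
      refine (QuotientGroup.eq_one_iff _).2 (mem_center_iff.2 fun b => Subtype.ext ?_)
      have ho : orderOf ((o ^ q.1 ^ k : N) : F.O) = m := by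
        rw [Subgroup.orderOf_coe, orderOf_pow_of_dvd (pow_ne_zero _ q.2.ne_zero) (hk ▸ dvd_mul_right _ _), hk,
          Nat.mul_div_cancel_left _ (pow_pos q.2.pos k)]
      exact mem_centralizer_iff.1 (hq' _ (o ^ q.1 ^ k).2 (by
        rw [ho]; exact (q.2.coprime_iff_not_dvd.2 hm').symm)) b b.2
    have hyN : (⟨y, hy⟩ : F.O) ∈ N := by
      refine ⟨fun l hl x hx => ?_, hinvcomm q y hy hyu, hstab q y hy hyu⟩
      refine htriv l y hy (hinvcomm l y hy hyu) (hstab l y hy hyu) ?_ x hx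
      obtain ⟨k, hk⟩ := IsPGroup.iff_card.1 hyp
      rw [Nat.card_zpowers] at hk
      rw [hk]
      exact ((Nat.coprime_primes q.2 l.2).2 fun e => hl (Subtype.ext e.symm)).pow_left k
    have hy' : (⟨y, hy⟩ : F.O) ∈ Cfsg.pCore q.1 F.O :=
      Cfsg.Lib.Misc.BenderPair.le_pCore_of_le_fitting (H := zpowers (⟨y, hy⟩ : F.O))
        (zpowers_le.2 (Cfsg.Lib.Components.le_fitting hnil hyN)) (by
          obtain ⟨k, hk⟩ := IsPGroup.iff_card.1 hyp
          exact IsPGroup.of_card (n := k) (by rw [Nat.card_zpowers, Subgroup.orderOf_mk, ← Nat.card_zpowers, hk]))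
        (mem_zpowers _)
    exact (hax q).all y ⟨_, hy', rfl⟩ hyu
  -- the derived group of `W` centralises the axes, so the inverted elements
  set X := ⁅F.W, F.W⁆
  have hXW : X ≤ F.W := commutator_le.2 fun a ha b hb =>
    mul_mem (mul_mem (mul_mem ha hb) (inv_mem ha)) (inv_mem hb)
  have hXax : ∀ q, X ≤ centralizer ({ax q} : Set G) := by
    intro q
    refine commutator_le.2 fun a ha b hb => mem_centralizer_singleton_iff.2 ?_
    obtain ⟨i, hi⟩ := mem_zpowers_iff.1 (hWax q a ha)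
    obtain ⟨j, hj⟩ := mem_zpowers_iff.1 (hWax q b hb)
    have h1 : a * b * ax q * (a * b)⁻¹ = b * a * ax q * (b * a)⁻¹ := by
      calc a * b * ax q * (a * b)⁻¹ = a * (b * ax q * b⁻¹) * a⁻¹ := by group
        _ = ax q ^ (i * j) := by rw [← hj, ← conj_zpow, ← hi, ← zpow_mul]
        _ = b * (a * ax q * a⁻¹) * b⁻¹ := by rw [← hi, ← conj_zpow, ← hj, ← zpow_mul, mul_comm]
        _ = _ := by group
    show a * b * a⁻¹ * b⁻¹ * ax q = ax q * (a * b * a⁻¹ * b⁻¹)
    set g' := (b * a)⁻¹ * (a * b) with hg'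
    have h2 : g' * ax q = ax q * g' := by
      calc g' * ax q = (b * a)⁻¹ * (a * b * ax q * (a * b)⁻¹) * (a * b) := by rw [hg']; group
        _ = ax q * g' := by rw [h1, hg']; group
    obtain ⟨l, hl⟩ := mem_zpowers_iff.1 ((mem_normalizer_iff''.1
      ((hOax q) (mul_mem (F.W_le hb) (F.W_le ha))) _).1 (mem_zpowers (ax q)))
    have h3 : Commute g' ((b * a)⁻¹ * ax q * (b * a)) := by
      rw [← hl]; exact (show Commute g' (ax q) from h2).zpow_right l
    calc a * b * a⁻¹ * b⁻¹ * ax q = b * a * (g' * ((b * a)⁻¹ * ax q * (b * a))) * (b * a)⁻¹ := by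
          rw [hg']; group
      _ = b * a * ((b * a)⁻¹ * ax q * (b * a) * g') * (b * a)⁻¹ := by rw [h3.eq]
      _ = ax q * (a * b * a⁻¹ * b⁻¹) := by rw [hg']; group
  have hXinv : ∀ y ∈ F.O, F.u * y * F.u⁻¹ = y⁻¹ → y ∈ centralizer (X : Set G) := by
    intro y hy hyu
    refine (Cfsg.Lib.Coprime.le_of_forall_sylow fun l hl => ?_ :
      zpowers y ≤ centralizer (X : Set G)) (mem_zpowers y)
    haveI := Fact.mk hl
    obtain ⟨P⟩ := (inferInstance : Nonempty (Sylow l (zpowers y)))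
    refine ⟨P, fun x hx => mem_centralizer_iff.2 fun v hv => ?_⟩
    obtain ⟨k, rfl⟩ := mem_zpowers_iff.1 (map_subtype_le _ hx)
    obtain ⟨j, hj⟩ := mem_zpowers_iff.1 (hmem ⟨l, hl⟩ _ (zpow_mem hy k) (inverted_zpow hyu k)
      ((P.2.map _).to_le (zpowers_le.2 hx)))
    rw [← hj]
    exact ((show Commute v (ax ⟨l, hl⟩) from mem_centralizer_singleton_iff.1 (hXax _ hv)).zpow_right j).eq
  -- `X` is normal in `C` and invariant under the rotation
  have hWX : ∀ c ∈ normalizer (F.W : Set G), c ∈ normalizer (X : Set G) := fun c hc => by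
    rw [mem_normalizer_iff_map_conj_eq, map_commutator, mem_normalizer_iff_map_conj_eq.1 hc]
  have hCX : D.C ≤ normalizer (X : Set G) := by
    rw [D.C_eq]
    refine sup_le (fun o ho => ?_) ?_
    · obtain ⟨w, hw, i, hi, hwu, hiu, rfl⟩ := decomp F.u_sq hodd (F.U_le_normalizer_O F.u_mem_U) ho
      exact mul_mem (hWX w (le_normalizer (F.mem_W.2 ⟨hw, hwu.symm⟩)))
        (centralizer_le_normalizer _ (hXinv i hi hiu))
    rw [Frame.S, closure_le]
    have htu : ∀ c ∈ D.C, c * F.u * c⁻¹ = F.t * F.u → c ∈ normalizer (F.W : Set G) := by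
      intro c hc hcu
      refine Cfsg.Lib.GW.mem_normalizer_finite fun x hx => F.mem_W.2
        ⟨(mem_normalizer_iff.1 (D.C_le_normalizer_O hc) x).1 (F.W_le hx), ?_⟩
      have h1 : Commute (c * x * c⁻¹) (c * F.u * c⁻¹) := by
        have := (show Commute x F.u from (F.mem_W.1 hx).2).map (MulAut.conj c).toMonoidHom
        simpa using this
      rw [hcu] at h1
      have h2 : Commute (c * x * c⁻¹) F.t :=
        F.mem_C.1 (F.O_le ((mem_normalizer_iff.1 (D.C_le_normalizer_O hc) x).1 (F.W_le hx)))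
      have h3 := h2.mul_right h1
      rwa [← mul_assoc, F.t_sq, one_mul] at h3
    have hs4 : D.s * D.s = D.t := by rw [Frame.t, hn, ← pow_two]; rfl
    have hrr : D.r⁻¹ = D.r := Cfsg.Lib.GenDihedral.inv_of_two D.r_order
    have hsi : D.s⁻¹ = D.t * D.s := inv_eq_of_mul_eq_one_right (by
      rw [← mul_assoc, (show Commute D.s D.t from (Commute.refl D.s).pow_right _).eq, mul_assoc, hs4]
      exact Cfsg.Lib.GenDihedral.mul_self_of_two D.t_order)
    have hsr : D.s * D.r = D.r * D.s⁻¹ := by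
      rw [← D.rel, ← mul_assoc, ← mul_assoc, Cfsg.Lib.GenDihedral.mul_self_of_two D.r_order, one_mul, hrr]
    rintro c (rfl | rfl)
    · refine hWX _ (htu _ (D.S_le_C D.s_mem_S) ?_)
      show D.s * (D.r * D.s) * D.s⁻¹ = D.t * (D.r * D.s)
      rw [← mul_assoc, mul_inv_cancel_right, hsr, hsi, ← mul_assoc, ← D.r_comm, mul_assoc]
    · refine hWX _ (htu _ (D.S_le_C D.r_mem_S) ?_)
      show D.r * (D.r * D.s) * D.r⁻¹ = D.t * (D.r * D.s)
      rw [← mul_assoc, Cfsg.Lib.GenDihedral.mul_self_of_two D.r_order, one_mul, hrr, hsr, hsi, ← mul_assoc,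
        ← D.r_comm, mul_assoc]
  have hXbot : X = ⊥ := by
    by_contra hne
    haveI := hm.simple
    have hC : normalizer (X : Set G) = D.C := by
      rcases eq_or_lt_of_le hCX with h | h
      · exact h.symm
      · exfalso
        haveI := normalizer_eq_top_iff.1 (hmax.2 _ h)
        rcases IsSimpleGroup.eq_bot_or_eq_top_of_normal X inferInstance with e | e
        · exact hne e
        · exact hmax.1 (top_le_iff.1 (e ▸ (hXW.trans F.W_le).trans D.O_le))
    have hσ : F.σ ∈ D.C := hC ▸ hWX F.σ (σ_mem_normalizer_W F hm)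
    have h1 : F.σ * F.t * F.σ⁻¹ = F.t := mul_inv_eq_iff_eq_mul.2 (F.mem_C.1 hσ)
    rw [F.σ_t] at h1
    exact F.t_ne_u h1.symm
  intro o ho x hx
  obtain ⟨w, hw, i, hi, hwu, hiu, rfl⟩ := decomp F.u_sq hodd (F.U_le_normalizer_O F.u_mem_U) ho
  have hxW : x ∈ F.W := F.mem_W.2 ⟨F.R_le p hx, hfix x hx⟩
  have hwx : Commute w x := by
    have h : ⁅w, x⁆ ∈ X := commutator_mem_commutator (F.mem_W.2 ⟨hw, hwu.symm⟩) hxW
    rw [hXbot, mem_bot] at h
    exact commutatorElement_eq_one_iff_mul_comm.1 h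
  have hfx : ∀ y ∈ F.R p, F.u * y * F.u⁻¹ = y := fun y hy => mul_inv_eq_iff_eq_mul.2 (hfix y hy).symm
  exact (hwx.mul_left (commute_of_conj_fixed hi hiu (hfx x hx)
    (hfx _ ((mem_normalizer_iff.1 (Cfsg.Lib.GW.Mixed.O_le_normalizer_R p hi) x).1 hx)))).eq

end Cfsg.Lib.GWD.Mixed
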